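import Groth.Agent.Sga7.H733.LevelTwoOfOpen
import Mathlib.RingTheory.DiscreteValuationRing.Basic

/-!
# Raynaud's criterion from the Galois criterion and quasi-unipotence
-/

set_option autoImplicit false
universe u
open CategoryTheory CategoryTheory.Limits AlgebraicGeometry MonObj

namespace Groth.Agent.Sga7.H733.S4052Glue

open SGA7

/-- S4052 from the conclusions of S4048 (direction `←`) and S4050 for this `R, K, Ω, W, A`. -/
theorem glue (R K Ω : Type u) [CommRing R] [IsDomain R] [IsDiscreteValuationRing R] [Field K]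
    [Algebra R K] [IsFractionRing R K] [Field Ω] [Algebra K Ω] [IsSepClosure K Ω]
    (W : ValuationSubring Ω)
    (n : ℕ) (hn : 3 ≤ n) (hnp : (n : IsLocalRing.ResidueField R) ≠ 0)
    (A : Over (Spec (CommRingCat.of K))) [GrpObj A] [IsProper A.hom] [GeometricallyIntegral A.hom]
    (h : SGA7.InertiaTrivialOn W A n)
    (hopen : ∀ ℓ : ℕ, ℓ.Prime → (ℓ : IsLocalRing.ResidueField R) ≠ 0 →
      ∃ π' : OpenSubgroup (Ω ≃ₐ[K] Ω), ∀ (ν : ℕ) (σ τ : Ω ≃ₐ[K] Ω), σ ∈ π' → τ ∈ π' →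
        SGA7.IsInertia W σ → SGA7.IsInertia W τ →
          ∀ x : SGA7.Pts Ω A, x ^ (ℓ ^ ν) = 1 → SGA7.dev σ (SGA7.dev τ x) = 1)
    (hcrit : ∀ ℓ : ℕ, ℓ.Prime → (ℓ : IsLocalRing.ResidueField R) ≠ 0 →
      SGA7.InertiaLevelTwoOn W A ℓ → SGA7.HasSemistableReduction R K A) :
    SGA7.HasSemistableReduction R K A := by
  obtain ⟨ℓ, hℓ, hℓp, hlev⟩ := LevelTwoOfOpen.exists_levelTwoOn_of_trivial W A R
    (IsFractionRing.injective R K) hn hnp h hopen
  exact hcrit ℓ hℓ hℓp hlev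

end Groth.Agent.Sga7.H733.S4052Glue
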