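import Groth.Prelude.Def_SGA7IX
import Groth.Agent.Grpsch.AbBC
import Groth.Agent.S0383
import Mathlib.AlgebraicGeometry.Group.Abelian
import Mathlib.AlgebraicGeometry.Sites.EtalePoint
import Mathlib.FieldTheory.Galois.Profinite
import Mathlib.FieldTheory.IsSepClosed

/-!
# Basic facts on the Galois module of points of an abelian variety
-/

set_option autoImplicit false
universe u
open CategoryTheory CategoryTheory.Limits AlgebraicGeometry MonObj

namespace Groth.Agent.Sga7.H733.PtsBasic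

open SGA7

section Gal

variable {K : Type u} [Field K] {Ω : Type u} [Field Ω] [Algebra K Ω]

lemma specAut_mul (σ τ : Ω ≃ₐ[K] Ω) : specAut (σ * τ) = specAut σ ≫ specAut τ := by
  apply Over.OverMorphism.ext
  change Spec.map _ = Spec.map _ ≫ Spec.map _
  rw [← Spec.map_comp, ← CommRingCat.ofHom_comp]
  rfl

lemma specAut_one : specAut (1 : Ω ≃ₐ[K] Ω) = 𝟙 _ := by
  apply Over.OverMorphism.ext
  change Spec.map (CommRingCat.ofHom (RingHom.id Ω)) = 𝟙 _
  rw [CommRingCat.ofHom_id, Spec.map_id]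

variable {A : Over (Spec (CommRingCat.of K))}

lemma galAct_mul (σ τ : Ω ≃ₐ[K] Ω) (x : Pts Ω A) : galAct (σ * τ) x = galAct σ (galAct τ x) := by
  simp only [galAct, specAut_mul, Category.assoc]

lemma galAct_one (x : Pts Ω A) : galAct (1 : Ω ≃ₐ[K] Ω) x = x := by
  simp only [galAct, specAut_one, Category.id_comp]

lemma galAct_pow (σ : Ω ≃ₐ[K] Ω) (n : ℕ) (x : Pts Ω A) : galAct (σ ^ n) x = (galAct σ)^[n] x := by
  induction n with
  | zero => rw [pow_zero, galAct_one]; rfl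
  | succ n ih => rw [pow_succ', galAct_mul, ih, Function.iterate_succ_apply']

lemma galAct_naturality {B : Over (Spec (CommRingCat.of K))} (f : A ⟶ B) (σ : Ω ≃ₐ[K] Ω) (x : Pts Ω A) :
    galAct σ (x ≫ f : Pts Ω B) = galAct σ x ≫ f := by
  simp only [galAct, Category.assoc]

variable [GrpObj A]

/-- the Galois action as a group endomorphism. -/
noncomputable def galHom (A : Over (Spec (CommRingCat.of K))) [GrpObj A] (σ : Ω ≃ₐ[K] Ω) :
    Pts Ω A →* Pts Ω A where
  toFun := galAct σ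
  map_one' := MonObj.comp_one _
  map_mul' _ _ := MonObj.comp_mul _ _ _

@[simp] lemma galHom_apply (σ : Ω ≃ₐ[K] Ω) (x : Pts Ω A) : galHom A σ x = galAct σ x := rfl

lemma galAct_mul' (σ : Ω ≃ₐ[K] Ω) (x y : Pts Ω A) : galAct σ (x * y) = galAct σ x * galAct σ y :=
  map_mul (galHom A σ) x y

lemma galAct_inv (σ : Ω ≃ₐ[K] Ω) (x : Pts Ω A) : galAct σ x⁻¹ = (galAct σ x)⁻¹ :=
  map_inv (galHom A σ) x

lemma galAct_npow (σ : Ω ≃ₐ[K] Ω) (x : Pts Ω A) (n : ℕ) : galAct σ (x ^ n) = (galAct σ x) ^ n :=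
  map_pow (galHom A σ) x n

lemma galAct_one' (σ : Ω ≃ₐ[K] Ω) : galAct σ (1 : Pts Ω A) = 1 := map_one (galHom A σ)

end Gal

section Inertia

variable {K : Type u} [Field K] {Ω : Type u} [Field Ω] [Algebra K Ω] {W : ValuationSubring Ω}

lemma isInertia_one : IsInertia W (1 : Ω ≃ₐ[K] Ω) := fun x hx => ⟨hx, by simp⟩

lemma isInertia_mul {σ τ : Ω ≃ₐ[K] Ω} (hσ : IsInertia W σ) (hτ : IsInertia W τ) :
    IsInertia W (σ * τ) := by
  intro x hx
  obtain ⟨h1, h2⟩ := hτ x hx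
  obtain ⟨h3, h4⟩ := hσ _ h1
  refine ⟨h3, ?_⟩
  have e : (σ * τ) x - x = (σ (τ x) - τ x) + (τ x - x) := by
    rw [AlgEquiv.mul_apply]; ring
  rw [e]
  exact lt_of_le_of_lt (W.valuation.map_add _ _) (max_lt h4 h2)

lemma isInertia_pow {σ : Ω ≃ₐ[K] Ω} (hσ : IsInertia W σ) (n : ℕ) : IsInertia W (σ ^ n) := by
  induction n with
  | zero => rw [pow_zero]; exact isInertia_one
  | succ n ih => rw [pow_succ]; exact isInertia_mul ih hσ

/-- some power of any automorphism lies in a given open subgroup. -/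
lemma exists_pow_mem [IsSepClosure K Ω] (U : OpenSubgroup (Ω ≃ₐ[K] Ω)) (σ : Ω ≃ₐ[K] Ω) :
    ∃ n : ℕ, n ≠ 0 ∧ σ ^ n ∈ U := by
  have h1 : Finite ((Ω ≃ₐ[K] Ω) ⧸ (U : Subgroup (Ω ≃ₐ[K] Ω))) :=
    Subgroup.quotient_finite_of_isOpen _ U.isOpen
  have h2 : (U : Subgroup (Ω ≃ₐ[K] Ω)).FiniteIndex := Subgroup.finiteIndex_of_finite_quotient
  obtain ⟨n, hn, -, hσ⟩ := Subgroup.exists_pow_mem_of_index_ne_zero h2.index_ne_zero σ
  exact ⟨n, hn.ne', hσ⟩

end Inertia

section Div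

variable {K : Type u} [Field K] {Ω : Type u} [Field Ω] [Algebra K Ω] [IsSepClosed Ω]

/-- `n`-divisibility of the points over a separably closed field, `n` invertible. -/
theorem exists_pow_eq (A : Over (Spec (CommRingCat.of K))) [GrpObj A] [IsProper A.hom]
    [GeometricallyIntegral A.hom] {n : ℕ} (hn : (n : K) ≠ 0) (x : Pts Ω A) :
    ∃ y : Pts Ω A, y ^ n = x := by
  have hn1 : 1 ≤ n := by
    rcases Nat.eq_zero_or_pos n with h | h
    · exact absurd (by rw [h, Nat.cast_zero]) hn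
    · exact h
  have hsurj := S0383.result K A n hn1
  have het : Etale ((𝟙 A ^ n).left) := by
    have := Groth.Agent.Grpsch.AbBC.etale_zpow A (d := (n : ℤ)) (by exact_mod_cast hn)
    rwa [zpow_natCast] at this
  obtain ⟨a, ha⟩ := hsurj.surj (x.left (default : ↥(Spec (CommRingCat.of Ω))))
  obtain ⟨l, hl, -⟩ := Scheme.exists_fac_of_etale_of_isSepClosed ((𝟙 A ^ n).left) x.left a ha
  have hw : l ≫ A.hom = (pt Ω).hom := by
    have h1 : (𝟙 A ^ n).left ≫ A.hom = A.hom := Over.w _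
    rw [← h1, ← Category.assoc, hl]
    exact Over.w x
  refine ⟨Over.homMk l hw, ?_⟩
  have h2 : (Over.homMk l hw : Pts Ω A) ≫ (𝟙 A ^ n) = x := by
    apply Over.OverMorphism.ext
    exact hl
  rw [← h2, MonObj.comp_pow, Category.comp_id]

end Div

end Groth.Agent.Sga7.H733.PtsBasic
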