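import Groth.Agent.Sga7.H733.Eff
import Mathlib.RingTheory.DiscreteValuationRing.Basic
import Mathlib.FieldTheory.IsAlgClosed.Basic

/-!
# The two inputs of Theorem BC as propositions

* `GV k` : existence of the Gauss valuations along the comultiplication (helper741).
* `FD k` : finite dimensionality of spaces of functions with bounded poles (helper290).
-/

set_option autoImplicit false
universe u

open CategoryTheory CategoryTheory.Limits MonoidalCategory CartesianMonoidalCategory AlgebraicGeometry TopologicalSpace
open scoped MonObj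

namespace Groth.Agent.Sga7.H733.BCProps

open Groth.Agent.Sga7.H730.Dv Groth.Agent.Sga7.H730.Tr Groth.Agent.Grpsch.GrowthFF
open Groth.Agent.Sga7.H733.Eff

/-- Gauss valuations along the comultiplication. -/
def GV (k : Type u) [Field k] : Prop :=
  ∀ (H : Over (Spec (CommRingCat.of k))) [GrpObj H] [IsCommMonObj H]
    [AlgebraicGeometry.IsIntegral H.left] [LocallyOfFiniteType H.hom] [QuasiCompact H.hom]
    [IsSeparated H.hom] (R : ValuationSubring H.left.functionField) [IsDiscreteValuationRing R]
    (_ : ∀ a : k, kF H a ∈ R),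
    ∃ w : H.left.functionFieldˣ →* Multiplicative ℤ,
      (∀ (x : 𝟙_ (Over (Spec (CommRingCat.of k))) ⟶ H) (f : H.left.functionFieldˣ), w (ta x f) = w f) ∧
      ∀ D : Dvs H.left, Eff D → ∃ c : H.left.functionFieldˣ, ∀ f : H.left.functionFieldˣ,
        Eff (dv f * D) → 1 ≤ w f → (c * f : H.left.functionField) ∈ R

/-- functions with bounded poles -/
def FD (k : Type u) [Field k] : Prop :=
  ∀ (B F : Type u) [CommRing B] [IsDomain B] [Algebra k B] [Algebra.FiniteType k B] [Field F]
    [Algebra B F] [IsFractionRing B F] [Algebra k F] [IsScalarTower k B F],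
    ∃ (m : ℕ) (O : Fin m → ValuationSubring F), (∀ j, IsDiscreteValuationRing (O j)) ∧
      (∀ j (a : k), algebraMap k F a ∈ O j) ∧
      ∀ c : Fin m → F, (∀ j, c j ≠ 0) → ∃ V : Submodule k B, Module.Finite k V ∧
        ∀ b : B, (∀ j, c j * algebraMap B F b ∈ O j) → b ∈ V

end Groth.Agent.Sga7.H733.BCProps
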