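import Groth.Agent.Sga7.H733.C3
import Groth.Agent.Sga7.H741.GaussGV

/-!
# Theorem BC' (form (C3) of the assembly of CORE), unconditional
-/

set_option autoImplicit false
universe u

open CategoryTheory CategoryTheory.Limits MonoidalCategory CartesianMonoidalCategory AlgebraicGeometry TopologicalSpace
open scoped MonObj

namespace Groth.Agent.Sga7.H733.C3Final

open Groth.Agent.Sga7.H730.Tr Groth.Agent.Books.AlgPts Groth.Agent.Grpsch.PicGrp

/-- **Theorem BC**: a smooth connected commutative group of finite type over an algebraically closed field with an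
ample class which is invariant under a dense `ℓ`-divisible `ℓ`-power torsion group of rational points is affine. -/
theorem c3 {k : Type u} [Field k] [IsAlgClosed k]
    (Y : Over (Spec (CommRingCat.of k))) [GrpObj Y] [IsCommMonObj Y] [Smooth Y.hom] [QuasiCompact Y.hom]
    [IsSeparated Y.hom] [ConnectedSpace Y.left] (L : Y.left.Modules) (hL : CohB1.IsAmple L)
    (W : Subgroup (𝟙_ (Over (Spec (CommRingCat.of k))) ⟶ Y))
    (hdense : Dense (pt '' (W : Set (𝟙_ (Over (Spec (CommRingCat.of k))) ⟶ Y)))) {l : ℕ}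
    (htor : ∀ w ∈ W, ∃ n : ℕ, w ^ (l ^ n) = 1) (hdiv : ∀ w ∈ W, ∃ v ∈ W, v ^ l = w)
    (hW : ∀ w ∈ W, pull (tr w).left (mk L hL.1) = mk L hL.1) : IsAffine Y.left :=
  C3.c3_of_gv (Groth.Agent.Sga7.H741.GaussGV.gv k) Y L hL W hdense htor hdiv hW

end Groth.Agent.Sga7.H733.C3Final
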