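import Groth.Agent.Sga7.H733.Eff
import Groth.Agent.Sga7.H730.PicDv

/-!
# The divisor of a section of an invertible module, and of an ample module
-/

set_option autoImplicit false
universe u

open CategoryTheory CategoryTheory.Limits MonoidalCategory CartesianMonoidalCategory AlgebraicGeometry TopologicalSpace
open scoped MonObj

namespace Groth.Agent.Sga7.H733.AmpleDiv

open Groth.Agent.Sga7.H730.Dv Groth.Agent.Sga7.H730.Tr Groth.Agent.Grpsch.GrowthFF Groth.Agent.Sga7.H730.PicDv
open Groth.Agent.Sga7.H733.Eff Groth.Agent.Fdesc.LocGen Groth.Agent.Grpsch.PicGrp Groth.Agent.Dix.Center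

variable {X : Scheme.{u}} [AlgebraicGeometry.IsIntegral X]

/-- membership in a basic open in terms of the function field -/
lemma mem_basicOpen_iff {W : X.Opens} {q : X} (hq : q ∈ W) (a : Γ(X, W)) {φ : X.functionFieldˣ}
    (hφ : gg (genericPoint_mem hq) a = φ) : q ∈ X.basicOpen a ↔ φ ∈ UU X q := by
  rw [Scheme.mem_basicOpen'' , mem_UU_iff]
  have h1 : toK X q (X.presheaf.germ W q hq a) = φ := by
    rw [← hφ]
    exact toK_germ hq a _
  constructor
  · rintro ⟨hq', hu⟩
    obtain ⟨b, hb⟩ := hu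
    refine ⟨b, ?_⟩
    rw [hb]
    exact h1
  · rintro ⟨b, hb⟩
    refine ⟨hq, ?_⟩
    have : X.presheaf.germ W q hq a = b := toK_injective X q (h1.trans hb.symm)
    rw [this]
    exact b.isUnit

/-- The divisor of a section. -/
theorem exists_divisor {M : X.Modules} (hM : PicF.IsInvertible M) (s : Coh.structureModule X ⟶ M)
    (hs : genericPoint X ∈ CohB1.genLocus M s) :
    ∃ D : Dvs X, Eff D ∧ (∀ p, p ∈ CohB1.genLocus M s ↔ D p = 1) ∧ Rep ((mk M hM)⁻¹) D := by
  have hinv := hM
  rw [isInvertible_iff] at hinv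
  choose W e hW he using hinv
  set V := CohB1.genLocus M s with hVdef
  have hs0 : IsGen (sec s V) := isGen_sec_genLocus s
  have hex := fun p => exists_ratio (he p) hs0 (genericPoint_mem (hW p)) hs
  choose c hc hc' using hex
  choose a ha using fun p => (he p).exists_eq (sec s (W p))
  -- `a p` is the inverse of `c p`
  have hac : ∀ p, gg (genericPoint_mem (hW p)) (a p) = (((c p)⁻¹ : X.functionFieldˣ) : X.functionField) := by
    intro p
    obtain ⟨U, hU, hUW, hUV, b, hb, hbc⟩ := hc p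
    have h1 : sec s U = ores hUW (a p) • res M hUW (e p) := by
      rw [← res_sec s hUW, ha p, res_smul]
    have h2 : res M hUV (sec s V) = sec s U := res_sec s hUV
    rw [h2, h1, smul_smul] at hb
    have h3 : (1 : Γ(X, U)) = b * ores hUW (a p) := ((he p).res hUW).ext (by rw [one_smul]; exact hb)
    have h4 : gg hU ((b : Γ(X, U)) * ores hUW (a p)) = 1 := by rw [← h3, map_one]
    rw [map_mul, gg_ores, ← coe_gu, hbc] at h4
    rw [Units.val_inv_eq_inv_val]
    exact eq_inv_of_mul_eq_one_right h4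
  let D : Dvs X := fun p => QuotientGroup.mk (c p)⁻¹
  have hRepM : RepM M (fun p => QuotientGroup.mk (c p)) :=
    ⟨V, sec s V, hs, hs0, fun p => ⟨W p, e p, c p, hW p, he p, hc p, rfl⟩⟩
  have hloc : ∀ p q, q ∈ W p → D q = QuotientGroup.mk (c p)⁻¹ := by
    intro p q hq
    have h1 : IsRatio (e q) (e p) (c q * (c p)⁻¹) := (hc q).trans (hc p).symm
    have h2 := h1.mem_UU (he q) (he p) (hW q) hq
    change QuotientGroup.mk (c q)⁻¹ = QuotientGroup.mk (c p)⁻¹
    rw [QuotientGroup.eq, inv_inv]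
    exact h2
  refine ⟨D, ?_, ?_, ?_⟩
  · intro p
    refine ⟨W p, (c p)⁻¹, hW p, fun q hq => ⟨?_, hloc p q hq⟩⟩
    rw [← hac p]
    exact gg_mem_O _ hq _
  · intro p
    have h1 : p ∈ V ↔ p ∈ X.basicOpen (a p) := by
      rw [← genLocus_inf_eq s (he p) (ha p)]
      exact ⟨fun h => ⟨h, hW p⟩, fun h => h.1⟩
    rw [h1, mem_basicOpen_iff (hW p) (a p) (hac p)]
    exact (QuotientGroup.eq_one_iff _).symm
  · have h1 : Rep (mk M hM) (fun p => QuotientGroup.mk (c p)) := ⟨M, hM, rfl, hRepM⟩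
    exact h1.inv

/-- an ample module gives an effective divisor with affine complement -/
theorem exists_of_ample {L : X.Modules} (hL : CohB1.IsAmple L) :
    ∃ (D : Dvs X) (V : X.Opens) (n : ℕ), Eff D ∧ IsAffineOpen V ∧ genericPoint X ∈ V ∧
      (∀ p, p ∈ V ↔ D p = 1) ∧ Rep ((mk L hL.1 ^ (n + 1))⁻¹) D := by
  obtain ⟨n, s, hs, haff⟩ := hL.2.2 (genericPoint X)
  obtain ⟨D, h1, h2, h3⟩ := exists_divisor (isInvertible_tensorPow hL.1 (n + 1)) s hs
  refine ⟨D, CohB1.genLocus _ s, n, h1, haff, hs, h2, ?_⟩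
  rwa [mk_tensorPow] at h3

/-- if the class of `L` is invariant under a translation, then so is the class of `D`. -/
theorem exists_dv_of_pull {f : X ⟶ X} (hf : Dom f) {P : Pic X}
    {D : Dvs X} (hD : Rep P D) (hP : pull f P = P) : ∃ φ : X.functionFieldˣ, dv φ * D = pl f hf D := by
  have h1 := hD.pull f hf
  rw [hP] at h1
  obtain ⟨φ, hφ⟩ := h1.exists_dv hD
  exact ⟨φ, by rw [hφ, mul_comm]⟩

end Groth.Agent.Sga7.H733.AmpleDiv
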