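import Groth.Agent.Sga7.H733.Trivialize
import Groth.Agent.Sga7.H733.AmpleDiv
import Groth.Agent.S3020
import Mathlib.AlgebraicGeometry.QuasiAffine

/-!
# Theorem BC

`k` algebraically closed, `Y` a commutative integral group scheme of finite type over `k`, `L` ample on `Y` and `W` a
dense `ℓ`-divisible `ℓ`-power torsion group of rational points which leave the class of `L` invariant. Then `Y` is
affine.
-/

set_option autoImplicit false
universe u

open CategoryTheory CategoryTheory.Limits MonoidalCategory CartesianMonoidalCategory AlgebraicGeometry TopologicalSpace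
open scoped MonObj

namespace Groth.Agent.Sga7.H733.BC

open Groth.Agent.Sga7.H730.Dv Groth.Agent.Sga7.H730.Tr Groth.Agent.Grpsch.GrowthFF Groth.Agent.Sga7.H730.PicDv
open Groth.Agent.Sga7.H733.Eff Groth.Agent.Sga7.H733.BCProps Groth.Agent.Sga7.H733.Poles
open Groth.Agent.Books.AlgPts Groth.Agent.Sga7.H733.AmpleDiv Groth.Agent.Grpsch.PicGrp

variable {k : Type u} [Field k] {H : Over (Spec (CommRingCat.of k))} [GrpObj H] [IsCommMonObj H]
  [AlgebraicGeometry.IsIntegral H.left]

/-- a group with an effective principal divisor with affine complement is affine -/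
theorem isAffine_of_dv [IsAlgClosed k] [LocallyOfFiniteType H.hom] [QuasiCompact H.hom]
    (W : Subgroup (𝟙_ (Over (Spec (CommRingCat.of k))) ⟶ H))
    (hdense : Dense (pt '' (W : Set (𝟙_ (Over (Spec (CommRingCat.of k))) ⟶ H))))
    (g : H.left.functionFieldˣ) (hg : Ge (dv g)) (V : H.left.Opens) (hV : IsAffineOpen V)
    (hη : genericPoint H.left ∈ V) (hVD : ∀ p, p ∈ V ↔ dv g p = 1) : IsAffine H.left := by
  haveI hcomp : CompactSpace H.left := QuasiCompact.compactSpace_of_compactSpace H.hom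
  obtain ⟨s, hs⟩ := exists_section (X := H.left) ⊤ trivial (g : H.left.functionField)
    (fun p _ => hg.mem_O_of_dv p)
  have hsV : H.left.basicOpen s = V := by
    ext p
    have h1 := mem_basicOpen_iff (X := H.left) (W := ⊤) (q := p) trivial s (φ := g) hs
    change p ∈ H.left.basicOpen s ↔ p ∈ V
    rw [h1, hVD]
    exact (QuotientGroup.eq_one_iff g).symm
  haveI : H.left.IsQuasiAffine := by
    refine Scheme.IsQuasiAffine.of_forall_exists_mem_basicOpen H.left fun p => ?_
    obtain ⟨w, hw⟩ := Trivialize.exists_tr_mem W hdense (V : Set H.left) V.isOpen ⟨_, hη⟩ p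
    haveI := isIso_tr_left w.1
    refine ⟨(tr w.1).left.appTop s, ?_, ?_⟩
    · rw [← Scheme.preimage_basicOpen_top, hsV]
      exact hV.preimage (tr w.1).left
    · rw [← Scheme.preimage_basicOpen_top, hsV]
      exact hw
  exact Groth.Agent.S3020.result k H

/-- **Theorem BC** for integral groups. -/
theorem isAffine_of_integral [IsAlgClosed k] [LocallyOfFiniteType H.hom] [QuasiCompact H.hom]
    [IsSeparated H.hom] (hGV : GV k) (hFD : FD k)
    (W : Subgroup (𝟙_ (Over (Spec (CommRingCat.of k))) ⟶ H))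
    (hdense : Dense (pt '' (W : Set (𝟙_ (Over (Spec (CommRingCat.of k))) ⟶ H)))) {l : ℕ}
    (htor : ∀ w ∈ W, ∃ n : ℕ, w ^ (l ^ n) = 1) (hdiv : ∀ w ∈ W, ∃ v ∈ W, v ^ l = w)
    (L : H.left.Modules) (hL : CohB1.IsAmple L)
    (hW : ∀ w ∈ W, pull (tr w).left (mk L hL.1) = mk L hL.1) : IsAffine H.left := by
  obtain ⟨D, V, n, hD, hV, hη, hVD, hRep⟩ := exists_of_ample hL
  have hW' : ∀ x : W, ∃ f : H.left.functionFieldˣ, dv f * D = td x.1 D := fun x =>
    exists_dv_of_pull (dom_tr x.1) hRep (by rw [map_inv, map_pow, hW x.1 x.2])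
  obtain ⟨g, rfl⟩ := Trivialize.exists_eq_dv hGV hFD W hdense (l := l) (fun x => by
      obtain ⟨n, hn⟩ := htor x.1 x.2
      exact ⟨n, Subtype.ext hn⟩) (fun x => by
      obtain ⟨v, hv, hv'⟩ := hdiv x.1 x.2
      exact ⟨⟨v, hv⟩, Subtype.ext hv'⟩) D hD V hV hη (fun p hp => (hVD p).mp hp) hW'
  exact isAffine_of_dv W hdense g hD.ge V hV hη hVD

end Groth.Agent.Sga7.H733.BC
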