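import Groth.Agent.Sga7.H733.BCProps
import Groth.Agent.Sga7.H290.FinDimDVR

/-!
# `FD k` holds (helper290)
-/

set_option autoImplicit false
universe u

namespace Groth.Agent.Sga7.H733.BCFd

open Groth.Agent.Sga7.H733.BCProps

theorem fd (k : Type u) [Field k] [IsAlgClosed k] : FD k := by
  intro B F _ _ _ _ _ _ _ _ _
  exact Groth.Agent.Sga7.H290.FinDimDVR.exists_valuationSubrings k B F

end Groth.Agent.Sga7.H733.BCFd
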