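import Groth.Agent.Sga7.H733.BC
import Groth.Agent.Sga7.H733.BCFd
import Groth.Agent.Sga3C.GrpIrr
import Groth.Agent.Etcore.SmoothRed

/-!
# Theorem BC for smooth connected groups (form (C3) of the assembly of CORE)
-/

set_option autoImplicit false
universe u

open CategoryTheory CategoryTheory.Limits MonoidalCategory CartesianMonoidalCategory AlgebraicGeometry TopologicalSpace
open scoped MonObj

namespace Groth.Agent.Sga7.H733.C3

open Groth.Agent.Sga7.H730.Tr Groth.Agent.Sga7.H733.BCProps Groth.Agent.Books.AlgPts Groth.Agent.Grpsch.PicGrp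

/-- (C3) modulo the Gauss valuations. -/
theorem c3_of_gv {k : Type u} [Field k] [IsAlgClosed k] (hGV : GV k)
    (Y : Over (Spec (CommRingCat.of k))) [GrpObj Y] [IsCommMonObj Y] [Smooth Y.hom] [QuasiCompact Y.hom]
    [IsSeparated Y.hom] [ConnectedSpace Y.left] (L : Y.left.Modules) (hL : CohB1.IsAmple L)
    (W : Subgroup (𝟙_ (Over (Spec (CommRingCat.of k))) ⟶ Y))
    (hdense : Dense (pt '' (W : Set (𝟙_ (Over (Spec (CommRingCat.of k))) ⟶ Y)))) {l : ℕ}
    (htor : ∀ w ∈ W, ∃ n : ℕ, w ^ (l ^ n) = 1) (hdiv : ∀ w ∈ W, ∃ v ∈ W, v ^ l = w)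
    (hW : ∀ w ∈ W, pull (tr w).left (mk L hL.1) = mk L hL.1) : IsAffine Y.left := by
  have h1 : IsReduced Y.left := Groth.Agent.Etcore.SmoothRed.isReduced_of_smooth Y.hom
  have h2 : GrpObj (Over.mk Y.hom) := ‹GrpObj Y›
  have h3 : IrreducibleSpace Y.left := Groth.Agent.Sga3C.GrpIrr.irreducibleSpace_of_isAlgClosed
    (k := k) Y.hom
  haveI : AlgebraicGeometry.IsIntegral Y.left := isIntegral_of_irreducibleSpace_of_isReduced _
  exact BC.isAffine_of_integral hGV (BCFd.fd k) W hdense htor hdiv L hL hW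

end Groth.Agent.Sga7.H733.C3
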