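import Groth.Agent.Sga7.H730.Tr

/-!
# Effective divisors (in the calculus of `H730.Dv`) and the constants of the function field

* `Eff D`: the family `D` of local equations is effective and locally principal.
* `kF H : k →+* K(H)` for `H : Over (Spec k)`.
-/

set_option autoImplicit false
universe u

open CategoryTheory CategoryTheory.Limits MonoidalCategory CartesianMonoidalCategory AlgebraicGeometry TopologicalSpace
open scoped MonObj

namespace Groth.Agent.Sga7.H733.Eff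

open Groth.Agent.Sga7.H730.Dv Groth.Agent.Sga7.H730.Tr Groth.Agent.Grpsch.GrowthFF

variable {X Y : Scheme.{u}} [AlgebraicGeometry.IsIntegral X] [AlgebraicGeometry.IsIntegral Y]

/-- `D` is effective and locally principal. -/
def Eff (D : Dvs X) : Prop :=
  ∀ p : X, ∃ (U : X.Opens) (φ : X.functionFieldˣ), p ∈ U ∧
    ∀ q ∈ U, (φ : X.functionField) ∈ O X q ∧ D q = QuotientGroup.mk φ

/-- pointwise effectivity -/
def Ge (D : Dvs X) : Prop :=
  ∀ p : X, ∃ φ : X.functionFieldˣ, (φ : X.functionField) ∈ O X p ∧ D p = QuotientGroup.mk φ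

lemma Eff.ge {D : Dvs X} (h : Eff D) : Ge D := fun p => by
  obtain ⟨U, φ, hp, h⟩ := h p
  exact ⟨φ, h p hp⟩

lemma Eff.one : Eff (1 : Dvs X) := fun _ =>
  ⟨⊤, 1, trivial, fun q _ => ⟨(O X q).one_mem, rfl⟩⟩

lemma Eff.mul {D E : Dvs X} (hD : Eff D) (hE : Eff E) : Eff (D * E) := fun p => by
  obtain ⟨U, φ, hp, h⟩ := hD p
  obtain ⟨V, ψ, hp', h'⟩ := hE p
  refine ⟨U ⊓ V, φ * ψ, ⟨hp, hp'⟩, fun q hq => ⟨?_, ?_⟩⟩
  · rw [Units.val_mul]
    exact (O X q).mul_mem (h q hq.1).1 (h' q hq.2).1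
  · rw [Dvs.mul_apply, (h q hq.1).2, (h' q hq.2).2, QuotientGroup.mk_mul]

/-- regularity of one rational function is an open condition -/
lemma isOpen_mem_O (φ : X.functionField) : IsOpen {q : X | φ ∈ O X q} := by
  rw [isOpen_iff_forall_mem_open]
  intro p hp
  obtain ⟨a, ha⟩ := hp
  obtain ⟨U, hpU, s, hs⟩ := X.presheaf.exists_germ_eq a
  refine ⟨U, fun q hq => ?_, U.isOpen, hpU⟩
  have hη := genericPoint_mem hpU
  have h1 : X.presheaf.germ U (genericPoint X) hη s = φ := by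
    rw [← ha, ← hs, toK_germ hpU s hη]
  change φ ∈ O X q
  rw [← h1]
  exact germ_mem_O hq hη s

lemma isOpen_mem_UU (φ : X.functionFieldˣ) : IsOpen {q : X | φ ∈ UU X q} :=
  (isOpen_mem_O (φ : X.functionField)).inter
    (isOpen_mem_O ((φ⁻¹ : X.functionFieldˣ) : X.functionField))

/-- the set where a locally principal divisor is trivial is open -/
lemma Eff.isOpen {D : Dvs X} (h : Eff D) : IsOpen {p : X | D p = 1} := by
  rw [isOpen_iff_forall_mem_open]
  intro p hp
  obtain ⟨U, φ, hpU, hφ⟩ := h p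
  refine ⟨U ∩ {q | φ ∈ UU X q}, ?_, U.isOpen.inter (isOpen_mem_UU φ), ⟨hpU, ?_⟩⟩
  · rintro q ⟨hq, hq'⟩
    change D q = 1
    rw [(hφ q hq).2]
    exact (QuotientGroup.eq_one_iff φ).mpr hq'
  · have h1 : D p = 1 := hp
    rw [(hφ p hpU).2] at h1
    exact (QuotientGroup.eq_one_iff φ).mp h1

/-- `D ≥ 0` at `p` and `D⁻¹ ≥ 0` at `p` -/
lemma eq_one_of_mem {p : X} {φ : X.functionFieldˣ} (h : (φ : X.functionField) ∈ O X p)
    (h' : ((φ⁻¹ : X.functionFieldˣ) : X.functionField) ∈ O X p) :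
    (QuotientGroup.mk φ : X.functionFieldˣ ⧸ UU X p) = 1 :=
  (QuotientGroup.eq_one_iff φ).mpr ⟨h, h'⟩

/-- well-definedness: if `mk φ = mk ψ` at `p` and `φ` is regular at `p` then so is `ψ` -/
lemma mem_O_of_mk_eq {p : X} {φ ψ : X.functionFieldˣ}
    (h : (QuotientGroup.mk φ : X.functionFieldˣ ⧸ UU X p) = QuotientGroup.mk ψ)
    (hφ : (φ : X.functionField) ∈ O X p) : (ψ : X.functionField) ∈ O X p := by
  have h1 : φ⁻¹ * ψ ∈ UU X p := QuotientGroup.eq.mp h
  have h2 : ψ = φ * (φ⁻¹ * ψ) := by rw [← mul_assoc, mul_inv_cancel, one_mul]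
  rw [h2, Units.val_mul]
  exact (O X p).mul_mem hφ h1.1

lemma Ge.mem_O {D : Dvs X} (h : Ge D) {p : X} {φ : X.functionFieldˣ} (hφ : D p = QuotientGroup.mk φ) :
    (φ : X.functionField) ∈ O X p := by
  obtain ⟨ψ, hψ, hψ'⟩ := h p
  exact mem_O_of_mk_eq (hψ'.symm.trans hφ) hψ

/-- a divisor of a rational function which is effective: the function is regular -/
lemma Ge.mem_O_of_dv {φ : X.functionFieldˣ} (h : Ge (dv φ)) (p : X) : (φ : X.functionField) ∈ O X p :=
  h.mem_O rfl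

lemma ge_mul_dv_iff {D : Dvs X} {φ : X.functionFieldˣ} :
    Ge (dv φ * D) ↔ ∀ p (θ : X.functionFieldˣ), D p = QuotientGroup.mk θ →
      (φ : X.functionField) * θ ∈ O X p := by
  constructor
  · intro h p θ hθ
    have h1 : (dv φ * D) p = QuotientGroup.mk (φ * θ) := by
      rw [Dvs.mul_apply, hθ, dv_apply, QuotientGroup.mk_mul]
    have := h.mem_O h1
    rwa [Units.val_mul] at this
  · intro h p
    obtain ⟨θ, hθ⟩ := QuotientGroup.mk_surjective (D p)
    refine ⟨φ * θ, ?_, ?_⟩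
    · rw [Units.val_mul]
      exact h p θ hθ.symm
    · rw [Dvs.mul_apply, ← hθ, dv_apply, QuotientGroup.mk_mul]

/-- if `D` is locally principal and effective, `dv φ * D` is locally principal; it is effective as soon as it
is pointwise effective. -/
lemma Eff.mul_dv {D : Dvs X} (hD : Eff D) {φ : X.functionFieldˣ} (h : Ge (dv φ * D)) : Eff (dv φ * D) := by
  intro p
  obtain ⟨U, θ, hpU, hθ⟩ := hD p
  refine ⟨U, φ * θ, hpU, fun q hq => ⟨?_, ?_⟩⟩
  · rw [Units.val_mul]
    exact ge_mul_dv_iff.mp h q θ (hθ q hq).2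
  · rw [Dvs.mul_apply, (hθ q hq).2, dv_apply, QuotientGroup.mk_mul]

lemma Eff.pl {D : Dvs Y} (hD : Eff D) (f : X ⟶ Y) (hf : Dom f) : Eff (pl f hf D) := by
  intro p
  obtain ⟨U, φ, hp, h⟩ := hD (f p)
  refine ⟨f ⁻¹ᵁ U, sgU f hf φ, hp, fun q hq => ⟨?_, ?_⟩⟩
  · exact sg_mem_O f hf (h (f q) hq).1
  · exact pl_apply f hf D q φ (h (f q) hq).2

lemma Ge.one : Ge (1 : Dvs X) := Eff.one.ge

section const

variable {k : Type u} [Field k] (H : Over (Spec (CommRingCat.of k))) [AlgebraicGeometry.IsIntegral H.left]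

/-- the constants of the function field of a `k`-scheme -/
noncomputable def kF : k →+* H.left.functionField :=
  letI : H.left.Over (Spec (CommRingCat.of k)) := ⟨H.hom⟩
  Groth.Agent.Grpsch.GrowthFF.kF H.left k

/-- the function field of a `k`-scheme as a `k`-algebra -/
@[reducible] noncomputable def kAlg : Algebra k H.left.functionField := (kF H).toAlgebra

lemma kF_mem_O (p : H.left) (c : k) : kF H c ∈ O H.left p :=
  letI : H.left.Over (Spec (CommRingCat.of k)) := ⟨H.hom⟩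
  Groth.Agent.Grpsch.GrowthFF.kF_mem_O H.left k p c

/-- the structure map on sections -/
noncomputable def kSec (U : H.left.Opens) : k →+* Γ(H.left, U) :=
  letI : H.left.Over (Spec (CommRingCat.of k)) := ⟨H.hom⟩
  (Groth.Agent.Grpsch.GrowthFF.kSec H.left k U).hom

lemma kF_eq_germ (U : H.left.Opens) (hη : genericPoint H.left ∈ U) (c : k) :
    kF H c = H.left.presheaf.germ U (genericPoint H.left) hη (kSec H U c) :=
  letI : H.left.Over (Spec (CommRingCat.of k)) := ⟨H.hom⟩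
  Groth.Agent.Grpsch.GrowthFF.kF_apply H.left k U hη c

variable {H}

/-- constants as units -/
noncomputable def kU (H : Over (Spec (CommRingCat.of k))) [AlgebraicGeometry.IsIntegral H.left] :
    kˣ →* H.left.functionFieldˣ := Units.map (kF H : k →* H.left.functionField)

@[simp] lemma coe_kU (c : kˣ) : (kU H c : H.left.functionField) = kF H c := rfl

lemma dv_kU (c : kˣ) : dv (kU H c) = 1 := by
  rw [dv_eq_one_iff]
  intro p
  refine ⟨kF_mem_O H p _, ?_⟩
  rw [← map_inv]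
  exact kF_mem_O H p _

/-- morphisms over `k` fix the constants -/
lemma sg_kF {H' : Over (Spec (CommRingCat.of k))} [AlgebraicGeometry.IsIntegral H'.left] (f : H' ⟶ H)
    (hf : Dom f.left) (c : k) : sg f.left hf (kF H c) = kF H' c := by
  rw [kF_eq_germ H ⊤ trivial, kF_eq_germ H' ⊤ trivial]
  have h := sg_germ f.left hf ⊤ trivial trivial (kSec H ⊤ c)
  refine h.trans ?_
  congr 1
  change (f.left.app ⊤).hom (((Scheme.ΓSpecIso (CommRingCat.of k)).inv ≫ H.hom.appTop ≫
      H.left.presheaf.map (homOfLE le_top).op).hom c) =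
    ((Scheme.ΓSpecIso (CommRingCat.of k)).inv ≫ H'.hom.appTop ≫
      H'.left.presheaf.map (homOfLE le_top).op).hom c
  have e1 : H.left.presheaf.map (homOfLE (le_top : (⊤ : H.left.Opens) ≤ ⊤)).op = 𝟙 _ :=
    H.left.presheaf.map_id _
  have e2 : H'.left.presheaf.map (homOfLE (le_top : f.left ⁻¹ᵁ (⊤ : H.left.Opens) ≤ ⊤)).op =
      𝟙 Γ(H'.left, ⊤) :=
    H'.left.presheaf.map_id _
  have e3 : H'.hom.appTop = H.hom.appTop ≫ f.left.appTop := by
    have := Over.w f
    rw [← Scheme.Hom.comp_appTop]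
    exact (congrArg (fun g : H'.left ⟶ _ => g.appTop) this).symm
  have e4 : ((Scheme.ΓSpecIso (CommRingCat.of k)).inv ≫ H.hom.appTop ≫ 𝟙 Γ(H.left, ⊤)) ≫ f.left.appTop =
      (Scheme.ΓSpecIso (CommRingCat.of k)).inv ≫ H'.hom.appTop ≫ 𝟙 Γ(H'.left, ⊤) := by
    rw [e3, Category.comp_id, Category.comp_id, Category.assoc]
  rw [e1]
  refine (DFunLike.congr_fun (congrArg CommRingCat.Hom.hom e4) c).trans ?_
  exact congrArg (fun g : Γ(H'.left, ⊤) ⟶ Γ(H'.left, ⊤) =>
    ((Scheme.ΓSpecIso (CommRingCat.of k)).inv ≫ H'.hom.appTop ≫ g).hom c) e2.symm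

end const

section tr

variable {k : Type u} [Field k] {H : Over (Spec (CommRingCat.of k))} [GrpObj H]
  [AlgebraicGeometry.IsIntegral H.left]

lemma ta_kU (x : 𝟙_ (Over (Spec (CommRingCat.of k))) ⟶ H) (c : kˣ) : ta x (kU H c) = kU H c := by
  apply Units.ext
  exact sg_kF (tr x) (dom_tr x) c

lemma Eff.td {D : Dvs H.left} (hD : Eff D) (x : 𝟙_ (Over (Spec (CommRingCat.of k))) ⟶ H) : Eff (td x D) :=
  hD.pl _ _

end tr

end Groth.Agent.Sga7.H733.Eff
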