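import Mathlib.LinearAlgebra.Eigenspace.Triangularizable
import Mathlib.LinearAlgebra.FiniteDimensional.Lemmas
import Mathlib.FieldTheory.IsAlgClosed.Basic
import Mathlib.RingTheory.IntegralClosure.IsIntegral.Basic

/-!
# Common eigenvectors, and the eigenvector of a multiplicative cocycle

`exists_eigen`: a cocycle `f : W → Fˣ` (up to constants) of an `ℓ`-divisible `ℓ`-power torsion commutative group
`W` acting on a field `F / k` whose values span a finite dimensional space has a common eigenvector.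
-/

set_option autoImplicit false

namespace Groth.Agent.Sga7.H733.Eig

open Module

/-- Commuting endomorphisms of a nonzero finite dimensional space over an algebraically closed field have a
common eigenvector. -/
theorem exists_common_eigenvector {k : Type*} [Field k] [IsAlgClosed k] {ι : Type*} (n : ℕ) :
    ∀ (V : Type*) [AddCommGroup V] [Module k V] [FiniteDimensional k V] [Nontrivial V]
      (_ : finrank k V = n) (T : ι → End k V) (_ : ∀ i j, T i * T j = T j * T i),
      ∃ v : V, v ≠ 0 ∧ ∀ i, ∃ c : k, T i v = c • v := by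
  induction n using Nat.strong_induction_on with
  | _ n ih =>
    intro V _ _ _ _ hn T hT
    by_cases h : ∀ i, ∃ c : k, ∀ v, T i v = c • v
    · obtain ⟨v, hv⟩ := exists_ne (0 : V)
      exact ⟨v, hv, fun i => by obtain ⟨c, hc⟩ := h i; exact ⟨c, hc v⟩⟩
    · push Not at h
      obtain ⟨i, hi⟩ := h
      obtain ⟨μ, hμ⟩ := Module.End.exists_eigenvalue (T i)
      obtain ⟨v₀, hv₀⟩ := hμ.exists_hasEigenvector
      let E : Submodule k V := Module.End.eigenspace (T i) μ
      have hEv : ∀ v, v ∈ E ↔ T i v = μ • v := fun v => Module.End.mem_eigenspace_iff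
      have hE0 : v₀ ∈ E := hv₀.1
      haveI : Nontrivial E := ⟨⟨v₀, hE0⟩, 0, fun h => hv₀.2 (congrArg Subtype.val h)⟩
      have hlt : finrank k E < n := by
        rw [← hn]
        apply Submodule.finrank_lt
        intro htop
        obtain ⟨v, hv⟩ := hi μ
        exact hv ((hEv v).mp (htop ▸ Submodule.mem_top))
      have hpres : ∀ j, ∀ v ∈ E, T j v ∈ E := by
        intro j v hv
        rw [hEv] at hv ⊢
        have : T i (T j v) = T j (T i v) := congrArg (fun f : End k V => f v) (hT i j)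
        rw [this, hv, map_smul]
      obtain ⟨v, hv, hv'⟩ := ih _ hlt E rfl (fun j => (T j).restrict (hpres j)) (by
        intro j l
        ext v
        exact congrArg (fun f : End k V => f v) (hT j l))
      refine ⟨v, fun h => hv (Subtype.ext h), fun j => ?_⟩
      obtain ⟨c, hc⟩ := hv' j
      exact ⟨c, congrArg Subtype.val hc⟩

/-- The common eigenvector of a cocycle. -/
theorem exists_eigen {k F W : Type*} [Field k] [IsAlgClosed k] [Field F] [Algebra k F] [CommGroup W] {l : ℕ}
    (htor : ∀ x : W, ∃ n : ℕ, x ^ (l ^ n) = 1) (hdiv : ∀ x : W, ∃ y : W, y ^ l = x)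
    (τ : W → F →ₗ[k] F) (hτ : ∀ x y f, τ (x * y) f = τ x (τ y f)) (hτm : ∀ x f g, τ x (f * g) = τ x f * τ x g)
    (f : W → F) (hf : ∀ x, f x ≠ 0) (hc : ∀ x y, ∃ c : k, c ≠ 0 ∧ f (x * y) = c • (f x * τ x (f y)))
    (hfin : FiniteDimensional k (Submodule.span k (Set.range f))) (hτ1 : ∀ x g, g ≠ 0 → τ x g ≠ 0) :
    ∃ e : F, e ≠ 0 ∧ e ∈ Submodule.span k (Set.range f) ∧ ∀ x, ∃ c : k, c ≠ 0 ∧ f x * τ x e = c • e := by
  set V := Submodule.span k (Set.range f) with hV
  -- the operators
  let ρ : W → F →ₗ[k] F := fun x => (LinearMap.mulLeft k (f x)).comp (τ x)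
  have hρ : ∀ x v, ρ x v = f x * τ x v := fun x v => rfl
  choose c hc0 hc using hc
  have hρf : ∀ x y, ρ x (f y) = (c x y)⁻¹ • f (x * y) := by
    intro x y
    rw [hρ, hc x y, smul_smul, inv_mul_cancel₀ (hc0 x y), one_smul]
  have hpres : ∀ x, ∀ v ∈ V, ρ x v ∈ V := by
    intro x v hv
    have : V ≤ V.comap (ρ x) := by
      rw [hV, Submodule.span_le]
      rintro _ ⟨y, rfl⟩
      change ρ x (f y) ∈ Submodule.span k (Set.range f)
      rw [hρf]
      exact Submodule.smul_mem _ _ (Submodule.subset_span ⟨x * y, rfl⟩)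
    exact this hv
  -- projective multiplicativity
  have hmul : ∀ x y v, ρ x (ρ y v) = (c x y)⁻¹ • ρ (x * y) v := by
    intro x y v
    rw [hρ, hρ, hρ, hτm, hτ, hc x y, smul_mul_assoc, smul_smul, inv_mul_cancel₀ (hc0 x y), one_smul, mul_assoc]
  -- the commutator
  let ε : W → W → k := fun x y => c y x * (c x y)⁻¹
  have hε0 : ∀ x y, ε x y ≠ 0 := fun x y => mul_ne_zero (hc0 y x) (inv_ne_zero (hc0 x y))
  have hcomm : ∀ x y v, ρ x (ρ y v) = ε x y • ρ y (ρ x v) := by
    intro x y v
    rw [hmul, hmul y x, smul_smul, mul_comm y x]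
    congr 1
    change _ = c y x * (c x y)⁻¹ * (c y x)⁻¹
    have := hc0 y x
    field_simp
  have hne : ∀ x v, v ≠ 0 → ρ x v ≠ 0 := fun x v hv => by
    rw [hρ]
    exact mul_ne_zero (hf x) (hτ1 x v hv)
  have hεmul : ∀ x y z, ε x (y * z) = ε x y * ε x z := by
    intro x y z
    have h1 : ρ x (ρ y (ρ z (f 1))) = (ε x y * ε x z) • ρ y (ρ z (ρ x (f 1))) := by
      rw [hcomm x y, hcomm x z, map_smul, smul_smul]
    have h2 : ρ x (ρ y (ρ z (f 1))) = ε x (y * z) • ρ y (ρ z (ρ x (f 1))) := by
      rw [hmul y z, map_smul, hcomm x (y * z), hmul y z, smul_comm]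
    have h3 : ρ y (ρ z (ρ x (f 1))) ≠ 0 := hne _ _ (hne _ _ (hne _ _ (hf 1)))
    have h4 : (ε x (y * z) - ε x y * ε x z) • ρ y (ρ z (ρ x (f 1))) = 0 := by
      rw [sub_smul, ← h1, ← h2, sub_self]
    rcases smul_eq_zero.mp h4 with h | h
    · exact sub_eq_zero.mp h
    · exact absurd h h3
  have hεsymm : ∀ x y, ε x y = (ε y x)⁻¹ := by
    intro x y
    change c y x * (c x y)⁻¹ = (c x y * (c y x)⁻¹)⁻¹
    rw [mul_inv, inv_inv, mul_comm]
  have hεone : ∀ x, ε x 1 = 1 := by
    intro x
    have := hεmul x 1 1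
    rw [mul_one] at this
    exact (mul_eq_left₀ (hε0 x 1)).mp this.symm
  have hεpow : ∀ x y (n : ℕ), ε x (y ^ n) = ε x y ^ n := by
    intro x y n
    induction n with
    | zero => rw [pow_zero, pow_zero, hεone]
    | succ n ih => rw [pow_succ, hεmul, ih, pow_succ]
  have hεpow' : ∀ x y (n : ℕ), ε (x ^ n) y = ε x y ^ n := by
    intro x y n
    rw [hεsymm, hεpow, hεsymm x y, inv_pow]
  have hdiv' : ∀ (n : ℕ) (x : W), ∃ y : W, y ^ (l ^ n) = x := by
    intro n
    induction n with
    | zero => intro x; exact ⟨x, by simp⟩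
    | succ n ih =>
      intro x
      obtain ⟨y, hy⟩ := ih x
      obtain ⟨z, hz⟩ := hdiv y
      exact ⟨z, by rw [pow_succ', pow_mul, hz, hy]⟩
  have hε1 : ∀ x y, ε x y = 1 := by
    intro x y
    obtain ⟨n, hn⟩ := htor x
    obtain ⟨z, hz⟩ := hdiv' n y
    rw [← hz, hεpow, ← hεpow', hn, hεsymm, hεone, inv_one]
  haveI : Nontrivial V := ⟨⟨f 1, Submodule.subset_span ⟨1, rfl⟩⟩, 0, fun h => hf 1 (congrArg Subtype.val h)⟩
  obtain ⟨v, hv, hv'⟩ := exists_common_eigenvector (k := k) _ V rfl (fun x => (ρ x).restrict (hpres x)) (by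
    intro x y
    ext v
    change ρ x (ρ y v) = ρ y (ρ x v)
    rw [hcomm, hε1, one_smul])
  refine ⟨v, fun h => hv (Subtype.ext h), v.2, fun x => ?_⟩
  obtain ⟨c, hc⟩ := hv' x
  have hc' : ρ x v = c • (v : F) := congrArg Subtype.val hc
  refine ⟨c, ?_, hc'⟩
  rintro rfl
  rw [zero_smul] at hc'
  exact hne x v (fun h => hv (Subtype.ext h)) hc'

/-- an element of a `k`-algebra domain all of whose powers lie in a finite dimensional subspace is a constant. -/
theorem exists_const {k B : Type*} [Field k] [IsAlgClosed k] [CommRing B] [IsDomain B] [Algebra k B]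
    (V : Submodule k B) [Module.Finite k V] (b : B) (hb : ∀ n : ℕ, b ^ n ∈ V) : ∃ c : k, algebraMap k B c = b := by
  have hint : IsIntegral k b := by
    refine IsIntegral.of_mem_of_fg (Algebra.adjoin k {b}) ?_ b (Algebra.self_mem_adjoin_singleton k b)
    have h1 : Subalgebra.toSubmodule (Algebra.adjoin k {b}) ≤ V := by
      rw [Algebra.adjoin_singleton_eq_range_aeval]
      rintro _ ⟨p, rfl⟩
      change Polynomial.aeval b p ∈ V
      rw [Polynomial.aeval_eq_sum_range]
      exact Submodule.sum_mem _ fun i _ => Submodule.smul_mem _ _ (hb i)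
    haveI : Module.Finite k (Subalgebra.toSubmodule (Algebra.adjoin k {b})) :=
      Module.Finite.of_injective (Submodule.inclusion h1) (Submodule.inclusion_injective h1)
    exact Module.Finite.iff_fg.mp this
  obtain ⟨c, hc⟩ := (IsAlgClosed.algebraMap_bijective_of_isIntegral (k := k)
    (K := integralClosure k B)).2 ⟨b, hint⟩
  exact ⟨c, congrArg Subtype.val hc⟩

/-- a homomorphism from an `ℓ`-divisible `ℓ`-power torsion group to a finitely generated commutative group is
trivial. -/
theorem hom_eq_zero {W M : Type*} [AddCommGroup W] [AddCommGroup M] {l : ℕ}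
    (htor : ∀ x : W, ∃ n : ℕ, (l ^ n) • x = 0) (hdiv : ∀ x : W, ∃ y : W, l • y = x)
    [Module.Finite ℤ M] (φ : W →+ M) (x : W) : φ x = 0 := by
  have hdiv' : ∀ (n : ℕ) (x : W), ∃ y : W, (l ^ n) • y = x := by
    intro n
    induction n with
    | zero => intro x; exact ⟨x, by simp⟩
    | succ n ih =>
      intro x
      obtain ⟨y, hy⟩ := ih x
      obtain ⟨z, hz⟩ := hdiv y
      exact ⟨z, by rw [pow_succ, mul_smul, hz, hy]⟩
  let S : Submodule ℤ M := LinearMap.range φ.toIntLinearMap
  have hS : S.FG := IsNoetherian.noetherian S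
  obtain ⟨s, hs⟩ := hS
  have h1 : ∀ t : Finset M, (∀ m ∈ t, m ∈ S) → ∃ N : ℕ, ∀ m ∈ t, (l ^ N) • m = 0 := by
    intro t
    classical
    induction t using Finset.induction_on with
    | empty => intro _; exact ⟨0, fun m hm => absurd hm (Finset.notMem_empty m)⟩
    | insert a t ha ih =>
      intro h
      obtain ⟨N, hN⟩ := ih fun m hm => h m (Finset.mem_insert_of_mem hm)
      obtain ⟨w, hw⟩ := h a (Finset.mem_insert_self a t)
      obtain ⟨n, hn⟩ := htor w
      refine ⟨N + n, fun m hm => ?_⟩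
      rcases Finset.mem_insert.mp hm with rfl | hm
      · have h2 : (l ^ n) • m = 0 := by
          rw [← hw]
          change (l ^ n) • φ w = 0
          rw [← map_nsmul, hn, map_zero]
        rw [pow_add, mul_smul, h2, smul_zero]
      · rw [pow_add, mul_comm, mul_smul, hN m hm, smul_zero]
  obtain ⟨N, hN⟩ := h1 s fun m hm => by
    change m ∈ S
    rw [← hs]; exact Submodule.subset_span hm
  have h2 : ∀ m ∈ S, (l ^ N) • m = 0 := by
    intro m hm
    rw [← hs] at hm
    refine Submodule.span_induction (p := fun m _ => (l ^ N) • m = 0) (fun m hm => hN m hm) (smul_zero _)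
      (fun a b _ _ ha hb => by rw [smul_add, ha, hb, add_zero]) (fun c a _ ha => by rw [smul_comm, ha, smul_zero]) hm
  obtain ⟨y, hy⟩ := hdiv' N x
  rw [← hy, map_nsmul]
  exact h2 (φ y) ⟨y, rfl⟩

end Groth.Agent.Sga7.H733.Eig
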