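import Mathlib.Algebra.Polynomial.AlgebraMap
import Mathlib.Algebra.Ring.GeomSum
import Mathlib.RingTheory.Coprime.Lemmas
import Mathlib.Data.Nat.Prime.Int
import Mathlib.Algebra.Group.Hom.End
import Mathlib.GroupTheory.Torsion

/-!
# Endomorphisms of divisible `ℓ`-power torsion groups: from an open subgroup to the whole group

Pure algebra used for the "level two" statements on Tate modules, at the level of the divisible torsion
group `M` (the `ℓ`-power torsion points).
-/

set_option autoImplicit false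

namespace Groth.Agent.Sga7.H733.LevelTwoAlg

/-- `(1 + q u)^m - 1 = q u · ℓ^v (c + ℓ a)` with `c` prime to `ℓ`, when `q = ℓ` is odd or `q = 4, ℓ = 2`. -/
def Good (l q : ℕ) (m : ℕ) : Prop :=
  ∀ {C : Type} [CommRing C] (u : C), ∃ (v : ℕ) (c : ℤ) (a : C), IsCoprime c (l : ℤ) ∧
    (1 + (q : C) * u) ^ m - 1 = (q : C) * u * ((l : C) ^ v * ((c : C) + (l : C) * a))

lemma good_one (l q : ℕ) : Good l q 1 := fun u => ⟨0, 1, 0, isCoprime_one_left, by push_cast; ring⟩

lemma Good.mul {l q m n : ℕ} (hm : Good l q m) (hn : Good l q n) : Good l q (m * n) := by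
  intro C _ u
  obtain ⟨v, c, a, hc, h⟩ := hm u
  obtain ⟨v', c', a', hc', h'⟩ := hn (u * ((l : C) ^ v * ((c : C) + (l : C) * a)))
  refine ⟨v + v', c * c', c * a' + c' * a + l * a * a', hc.mul_left hc', ?_⟩
  have e : (1 + (q : C) * u) ^ m = 1 + (q : C) * (u * ((l : C) ^ v * ((c : C) + (l : C) * a))) := by
    rw [← mul_assoc, ← h]; ring
  rw [pow_mul, e, h']
  push_cast
  ring

/-- `(1 + q u)^i = 1 + q (i u + q b)`. -/
lemma exists_pow_eq {C : Type} [CommRing C] (q u : C) (i : ℕ) :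
    ∃ b : C, (1 + q * u) ^ i = 1 + q * ((i : C) * u + q * b) := by
  induction i with
  | zero => exact ⟨0, by simp⟩
  | succ i ih =>
    obtain ⟨b, hb⟩ := ih
    refine ⟨b + u * ((i : C) * u + q * b), ?_⟩
    rw [pow_succ, hb]
    push_cast
    ring

lemma exists_geom {C : Type} [CommRing C] (q u : C) (m : ℕ) :
    ∃ b : C, ∑ i ∈ Finset.range m, (1 + q * u) ^ i =
      (m : C) + q * (((∑ i ∈ Finset.range m, i : ℕ) : C) * u + q * b) := by
  choose b hb using exists_pow_eq q u
  refine ⟨∑ i ∈ Finset.range m, b i, ?_⟩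
  simp_rw [hb]
  rw [Finset.sum_add_distrib, ← Finset.mul_sum, Finset.sum_add_distrib, ← Finset.mul_sum,
    ← Finset.sum_mul]
  simp

lemma good_of_prime_ne {l q r : ℕ} (hl : l.Prime) (hq : l ∣ q) (hr : r.Prime) (hrl : r ≠ l) :
    Good l q r := by
  intro C _ u
  obtain ⟨b, hb⟩ := exists_geom (q : C) u r
  obtain ⟨q', rfl⟩ := hq
  refine ⟨0, r, (q' : C) * (((∑ i ∈ Finset.range r, i : ℕ) : C) * u + ((l * q' : ℕ) : C) * b), ?_, ?_⟩
  · rw [Int.isCoprime_iff_gcd_eq_one, Int.gcd_natCast_natCast]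
    exact (Nat.coprime_primes hr hl).2 hrl
  · have := geom_sum_mul (1 + ((l * q' : ℕ) : C) * u) r
    rw [hb] at this
    rw [← this]
    push_cast
    ring

lemma good_self_odd {l : ℕ} (hl : l.Prime) (h2 : l ≠ 2) : Good l l l := by
  intro C _ u
  obtain ⟨b, hb⟩ := exists_geom (l : C) u l
  have hodd : Odd l := hl.odd_of_ne_two h2
  obtain ⟨k, hk⟩ := hodd
  have hsum : (∑ i ∈ Finset.range l, i) = l * k := by
    have := Finset.sum_range_id_mul_two l
    have h3 : l - 1 = 2 * k := by omega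
    rw [h3] at this
    nlinarith
  refine ⟨1, 1, (k : C) * u + b, isCoprime_one_left, ?_⟩
  have := geom_sum_mul (1 + (l : C) * u) l
  rw [hb, hsum] at this
  rw [← this]
  push_cast
  ring

lemma good_two_four : Good 2 4 2 := by
  intro C _ u
  exact ⟨1, 1, u, isCoprime_one_left, by push_cast; ring⟩

/-- `q = ℓ` odd or `q = 4`, `ℓ = 2`. -/
def Adm (l q : ℕ) : Prop := l.Prime ∧ ((l ≠ 2 ∧ q = l) ∨ (l = 2 ∧ q = 4))

lemma Adm.dvd {l q : ℕ} (h : Adm l q) : l ∣ q := by
  obtain ⟨-, h | h⟩ := h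
  · rw [h.2]
  · rw [h.1, h.2]; norm_num

lemma good_all {l q : ℕ} (h : Adm l q) {m : ℕ} (hm : m ≠ 0) : Good l q m := by
  induction m using Nat.recOnMul with
  | zero => exact absurd rfl hm
  | one => exact good_one l q
  | prime r hr =>
    by_cases hrl : r = l
    · subst hrl
      obtain ⟨hl, h | h⟩ := h
      · rw [h.2]; exact good_self_odd hl h.1
      · rw [h.1, h.2]; exact good_two_four
    · exact good_of_prime_ne h.1 h.dvd hr hrl
  | mul a b ha hb =>
    exact Good.mul (ha (by rintro rfl; simp at hm)) (hb (by rintro rfl; simp at hm))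

section End

variable {M : Type*} [AddCommGroup M]

/-- an `ℓ`-power torsion, `ℓ`-divisible group. -/
structure TorsDiv (M : Type*) [AddCommGroup M] (l : ℕ) : Prop where
  tors : ∀ x : M, ∃ ν : ℕ, (l ^ ν) • x = 0
  div : ∀ x : M, ∃ y : M, l • y = x

lemma TorsDiv.div_pow {l : ℕ} (h : TorsDiv M l) (v : ℕ) (x : M) : ∃ y : M, (l ^ v) • y = x := by
  induction v generalizing x with
  | zero => exact ⟨x, by simp⟩
  | succ v ih =>
    obtain ⟨y, hy⟩ := h.div x
    obtain ⟨z, hz⟩ := ih y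
    exact ⟨z, by rw [pow_succ', mul_smul, hz, hy]⟩

lemma TorsDiv.div_of_coprime {l : ℕ} (h : TorsDiv M l) {c : ℤ} (hc : IsCoprime c (l : ℤ)) (x : M) :
    ∃ y : M, c • y = x := by
  obtain ⟨ν, hν⟩ := h.tors x
  obtain ⟨a, b, hab⟩ := hc.pow_right (n := ν)
  refine ⟨a • x, ?_⟩
  have h1 : (c * a) • x = (1 : ℤ) • x := by
    have h2 : (c * a : ℤ) = 1 - b * (l : ℤ) ^ ν := by rw [← hab]; ring
    have h3 : ((l : ℤ) ^ ν) • x = 0 := by
      have h4 : ((l : ℤ) ^ ν) • x = ((l ^ ν : ℕ) : ℤ) • x := by push_cast; rfl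
      rw [h4, natCast_zsmul, hν]
    rw [h2, sub_smul, mul_smul, h3, smul_zero, sub_zero]
  rw [← mul_smul, h1, one_smul]

/-- multiplication by any nonzero integer is surjective. -/
lemma TorsDiv.div_nat {l : ℕ} (hl : l.Prime) (h : TorsDiv M l) {d : ℕ} (hd : d ≠ 0) (x : M) :
    ∃ y : M, d • y = x := by
  obtain ⟨n, c, hc, hdc⟩ := Nat.exists_eq_pow_mul_and_not_dvd hd l hl.ne_one
  have hcop : IsCoprime (c : ℤ) (l : ℤ) := by
    rw [Int.isCoprime_iff_gcd_eq_one, Int.gcd_natCast_natCast]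
    exact (Nat.Coprime.symm ((Nat.Prime.coprime_iff_not_dvd hl).2 hc))
  obtain ⟨y, hy⟩ := h.div_of_coprime hcop x
  obtain ⟨z, hz⟩ := h.div_pow n y
  refine ⟨z, ?_⟩
  rw [hdc, mul_comm, mul_smul, hz, ← hy, natCast_zsmul]

lemma TorsDiv.div_int {l : ℕ} (hl : l.Prime) (h : TorsDiv M l) {d : ℤ} (hd : d ≠ 0) (x : M) :
    ∃ y : M, d • y = x := by
  obtain ⟨y, hy⟩ := h.div_nat hl (Int.natAbs_ne_zero.2 hd) x
  rcases Int.natAbs_eq d with h1 | h1
  · exact ⟨y, by rw [h1, natCast_zsmul, hy]⟩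
  · exact ⟨-y, by rw [h1, neg_smul, smul_neg, neg_neg, natCast_zsmul, hy]⟩

lemma one_add_apply (l : ℕ) (a : AddMonoid.End M) (x : M) :
    (1 + (l : AddMonoid.End M) * a) x = x + l • a x := by
  rw [← nsmul_eq_mul]
  rfl

lemma tors_apply_pow (l : ℕ) (b : AddMonoid.End M) (n : ℕ) (x : M) :
    (((l : AddMonoid.End M) * b) ^ n) x = l ^ n • (b ^ n) x := by
  have hc : Commute (l : AddMonoid.End M) b := Nat.cast_commute l b
  rw [hc.mul_pow, ← Nat.cast_pow, ← nsmul_eq_mul]
  rfl

/-- `1 + ℓ a` is invertible. -/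
lemma exists_inv_one_add {l : ℕ} (h : TorsDiv M l) (a : AddMonoid.End M) :
    ∃ w : AddMonoid.End M, w * (1 + (l : AddMonoid.End M) * a) = 1 ∧
      (1 + (l : AddMonoid.End M) * a) * w = 1 ∧ ∀ b, Commute b a → Commute b w := by
  let t : AddMonoid.End M := 1 + (l : AddMonoid.End M) * a
  have ht : t = 1 - (l : AddMonoid.End M) * (-a) := by simp [t]
  have hg : ∀ n, (∑ i ∈ Finset.range n, ((l : AddMonoid.End M) * (-a)) ^ i) * t =
      1 - ((l : AddMonoid.End M) * (-a)) ^ n := by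
    intro n; rw [ht]; exact geom_sum_mul_neg _ n
  have hg' : ∀ n, t * (∑ i ∈ Finset.range n, ((l : AddMonoid.End M) * (-a)) ^ i) =
      1 - ((l : AddMonoid.End M) * (-a)) ^ n := by
    intro n; rw [ht]; exact mul_neg_geom_sum _ n
  have hinj : Function.Injective t := by
    rw [injective_iff_map_eq_zero]
    intro x hx
    obtain ⟨ν, hν⟩ := h.tors x
    have h1 := congrArg (fun f : AddMonoid.End M => f x) (hg ν)
    have h2 : ((∑ i ∈ Finset.range ν, ((l : AddMonoid.End M) * (-a)) ^ i) * t) x = 0 := by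
      change (∑ i ∈ Finset.range ν, ((l : AddMonoid.End M) * (-a)) ^ i) (t x) = 0
      rw [hx, map_zero]
    have h3 : (1 - ((l : AddMonoid.End M) * (-a)) ^ ν) x =
        x - (((l : AddMonoid.End M) * (-a)) ^ ν) x := rfl
    rw [h2, h3, tors_apply_pow, ← map_nsmul, hν, map_zero, sub_zero] at h1
    exact h1.symm
  have hsurj : Function.Surjective t := by
    intro y
    obtain ⟨ν, hν⟩ := h.tors y
    refine ⟨(∑ i ∈ Finset.range ν, ((l : AddMonoid.End M) * (-a)) ^ i) y, ?_⟩
    have h1 := congrArg (fun f : AddMonoid.End M => f y) (hg' ν)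
    have h3 : (1 - ((l : AddMonoid.End M) * (-a)) ^ ν) y =
        y - (((l : AddMonoid.End M) * (-a)) ^ ν) y := rfl
    rw [h3, tors_apply_pow, ← map_nsmul, hν, map_zero, sub_zero] at h1
    exact h1
  let e : M ≃+ M := AddEquiv.ofBijective t ⟨hinj, hsurj⟩
  let w : AddMonoid.End M := e.symm.toAddMonoidHom
  have h1 : w * t = 1 := by
    ext x; exact e.symm_apply_apply x
  have h2 : t * w = 1 := by
    ext x; exact e.apply_symm_apply x
  refine ⟨w, h1, h2, fun b hb => ?_⟩
  have hbt : b * t = t * b := by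
    have : Commute b ((l : AddMonoid.End M) * a) := (Nat.commute_cast b l).mul_right hb
    exact ((Commute.one_right b).add_right this).eq
  change b * w = w * b
  calc b * w = w * t * (b * w) := by rw [h1, one_mul]
    _ = w * (t * b) * w := by simp only [mul_assoc]
    _ = w * (b * t) * w := by rw [hbt]
    _ = w * b * (t * w) := by simp only [mul_assoc]
    _ = w * b := by rw [h2, mul_one]

/-- an operator `w` having a quasi-inverse. -/
def QInv (w : AddMonoid.End M) : Prop := ∃ (w' : AddMonoid.End M) (d : ℤ), d ≠ 0 ∧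
  w' * w = (d : AddMonoid.End M) ∧ w * w' = (d : AddMonoid.End M)

lemma intCast_apply (d : ℤ) (x : M) : (d : AddMonoid.End M) x = d • x := by
  rw [← mul_one (d : AddMonoid.End M), ← zsmul_eq_mul]; rfl

lemma QInv.mul {w w' : AddMonoid.End M} (h : QInv w) (h' : QInv w') : QInv (w * w') := by
  obtain ⟨a, d, hd, h1, h2⟩ := h
  obtain ⟨a', d', hd', h1', h2'⟩ := h'
  refine ⟨a' * a, d * d', mul_ne_zero hd hd', ?_, ?_⟩
  · calc a' * a * (w * w') = a' * ((a * w) * w') := by simp only [mul_assoc]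
      _ = a' * ((d : AddMonoid.End M) * w') := by rw [h1]
      _ = (d : AddMonoid.End M) * (a' * w') := by
        rw [← mul_assoc, (Int.cast_commute d a').symm.eq, mul_assoc]
      _ = _ := by rw [h1']; push_cast; rfl
  · calc w * w' * (a' * a) = w * ((w' * a') * a) := by simp only [mul_assoc]
      _ = w * ((d' : AddMonoid.End M) * a) := by rw [h2']
      _ = (d' : AddMonoid.End M) * (w * a) := by
        rw [← mul_assoc, (Int.cast_commute d' w).symm.eq, mul_assoc]
      _ = _ := by rw [h2, mul_comm d d']; push_cast; rfl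

lemma QInv.intCast {d : ℤ} (hd : d ≠ 0) : QInv (d : AddMonoid.End M) :=
  ⟨1, d, hd, one_mul _, mul_one _⟩

/-- cancelling quasi-invertible operators on both sides. -/
lemma eq_zero_of_qinv {l : ℕ} (hl : l.Prime) (h : TorsDiv M l) {w w' e : AddMonoid.End M} (hw : QInv w)
    (hw' : QInv w') (he : w * e * w' = 0) : e = 0 := by
  obtain ⟨a, d, hd, h1, h2⟩ := hw
  obtain ⟨a', d', hd', h1', h2'⟩ := hw'
  have h3 : e * (((d * d' : ℤ)) : AddMonoid.End M) = 0 := by
    have : a * (w * e * w') * a' = 0 := by rw [he, mul_zero, zero_mul]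
    calc e * (((d * d' : ℤ)) : AddMonoid.End M) = ((d : AddMonoid.End M) * e) * (d' : AddMonoid.End M) := by
          push_cast; rw [(Int.cast_commute d e).eq, mul_assoc]
      _ = ((a * w) * e) * (w' * a') := by rw [h1, h2']
      _ = a * (w * e * w') * a' := by simp only [mul_assoc]
      _ = 0 := this
  ext x
  obtain ⟨y, hy⟩ := h.div_int hl (mul_ne_zero hd hd') x
  have h4 := congrArg (fun f : AddMonoid.End M => f y) h3
  have h5 : (e * (((d * d' : ℤ)) : AddMonoid.End M)) y = e ((d * d') • y) := by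
    change e ((((d * d' : ℤ)) : AddMonoid.End M) y) = _
    rw [intCast_apply]
  rw [h5, hy] at h4
  exact h4

/-- `s ≡ 1 mod q` on the `q`-torsion, `M` divisible: `s = 1 + q u`. -/
lemma exists_eq_one_add {l q : ℕ} (hlq : Adm l q) (h : TorsDiv M l) (s : AddMonoid.End M)
    (hs : ∀ x : M, q • x = 0 → s x = x) : ∃ u : AddMonoid.End M, s = 1 + (q : AddMonoid.End M) * u := by
  have hq0 : q ≠ 0 := by
    obtain ⟨hl, h | h⟩ := hlq
    · rw [h.2]; exact hl.ne_zero
    · rw [h.2]; norm_num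
  have hdiv : ∀ x : M, ∃ y : M, q • y = x := fun x => h.div_nat hlq.1 hq0 x
  choose f hf using hdiv
  have key : ∀ x y : M, q • x = q • y → (s - 1) x = (s - 1) y := by
    intro x y hxy
    have h1 : s (x - y) = x - y := hs _ (by rw [smul_sub, hxy, sub_self])
    have h2 : s x - s y = x - y := by rw [← map_sub, h1]
    change s x - x = s y - y
    rw [sub_eq_sub_iff_sub_eq_sub, h2]
  let u : AddMonoid.End M :=
    { toFun := fun x => (s - 1) (f x)
      map_zero' := by
        have : (s - 1) (f 0) = (s - 1) 0 := key _ _ (by rw [hf, smul_zero])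
        rw [this, map_zero]
      map_add' := by
        intro x y
        have : (s - 1) (f (x + y)) = (s - 1) (f x + f y) := key _ _ (by rw [hf, smul_add, hf, hf])
        rw [this, map_add] }
  refine ⟨u, ?_⟩
  have hc : (q : AddMonoid.End M) * u = u * (q : AddMonoid.End M) := (Nat.cast_commute q u).eq
  have h1 : u * (q : AddMonoid.End M) = s - 1 := by
    ext x
    have h2 : (q : AddMonoid.End M) x = q • x := by
      rw [← mul_one (q : AddMonoid.End M), ← nsmul_eq_mul]; rfl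
    change (s - 1) (f ((q : AddMonoid.End M) x)) = (s - 1) x
    rw [h2]
    exact key _ _ (hf _)
  rw [hc, h1, add_sub_cancel]

lemma qinv_coprime {l : ℕ} (h : TorsDiv M l) {c : ℤ} (hc : IsCoprime c (l : ℤ))
    (b : AddMonoid.End M) : QInv ((c : AddMonoid.End M) + (l : AddMonoid.End M) * b) := by
  obtain ⟨x, y, hxy⟩ := hc
  obtain ⟨w, hw1, hw2, -⟩ := exists_inv_one_add h ((x : AddMonoid.End M) * b - (y : AddMonoid.End M))
  have e : (x : AddMonoid.End M) * ((c : AddMonoid.End M) + (l : AddMonoid.End M) * b) =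
      1 + (l : AddMonoid.End M) * ((x : AddMonoid.End M) * b - (y : AddMonoid.End M)) := by
    have h1 : (x : AddMonoid.End M) * (c : AddMonoid.End M) =
        1 - (l : AddMonoid.End M) * (y : AddMonoid.End M) := by
      have h2 : x * c = 1 - (l : ℤ) * y := by rw [← hxy]; ring
      have := congrArg (fun z : ℤ => (z : AddMonoid.End M)) h2
      simpa using this
    have h2 : (x : AddMonoid.End M) * ((l : AddMonoid.End M) * b) =
        (l : AddMonoid.End M) * ((x : AddMonoid.End M) * b) := by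
      rw [← mul_assoc, ← mul_assoc, (Nat.cast_commute l (x : AddMonoid.End M)).eq]
    rw [mul_add, h1, h2, mul_sub]
    abel
  refine ⟨(x : AddMonoid.End M) * w, 1, one_ne_zero, ?_, ?_⟩
  · rw [(Int.cast_commute x w).eq, mul_assoc, e, hw1, Int.cast_one]
  · rw [← mul_assoc, ← (Int.cast_commute x _).eq, e, hw2, Int.cast_one]

/-- `s^m - 1 = (s - 1) N = N (s - 1)` with `N` quasi-invertible, when `s` is trivial on the `q`-torsion. -/
lemma exists_pow_sub_one {l q : ℕ} (hlq : Adm l q) (h : TorsDiv M l) (s : AddMonoid.End M)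
    (hs : ∀ x : M, q • x = 0 → s x = x) {m : ℕ} (hm : m ≠ 0) :
    ∃ N : AddMonoid.End M, QInv N ∧ s ^ m - 1 = (s - 1) * N ∧ s ^ m - 1 = N * (s - 1) := by
  obtain ⟨u, hu⟩ := exists_eq_one_add hlq h s hs
  obtain ⟨v, c, a, hc, hg⟩ := good_all hlq hm (Polynomial.X : Polynomial ℤ)
  have hl0 : (l : ℤ) ≠ 0 := by exact_mod_cast hlq.1.ne_zero
  have hg1 := congrArg (Polynomial.aeval u) hg
  have hg2 := congrArg (Polynomial.aeval u) (hg.trans (mul_comm _ _))
  simp only [map_sub, map_pow, map_add, map_one, map_mul, map_natCast, Polynomial.aeval_X,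
    map_intCast] at hg1 hg2
  have e1 : s - 1 = (q : AddMonoid.End M) * u := by rw [hu, add_sub_cancel_left]
  refine ⟨(l : AddMonoid.End M) ^ v * ((c : AddMonoid.End M) + (l : AddMonoid.End M) *
    Polynomial.aeval u a), ?_, ?_, ?_⟩
  · refine QInv.mul ?_ (qinv_coprime h hc _)
    have := QInv.intCast (M := M) (pow_ne_zero v hl0)
    simpa using this
  · rw [e1, ← hg1, ← hu]
  · rw [e1, ← hg2, ← hu]

/-- the unipotent case. -/
lemma exists_pow_sub_one_of_unip (s : AddMonoid.End M) {k : ℕ}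
    (hs : (s - 1) ^ k = 0) {m : ℕ} (hm : m ≠ 0) :
    ∃ N : AddMonoid.End M, QInv N ∧ s ^ m - 1 = (s - 1) * N ∧ s ^ m - 1 = N * (s - 1) := by
  obtain ⟨b, hb⟩ : ∃ b : Polynomial ℤ, ∑ i ∈ Finset.range m, (Polynomial.X : Polynomial ℤ) ^ i =
      (m : Polynomial ℤ) + (Polynomial.X - 1) * b := by
    have h1 : (Polynomial.X - 1 : Polynomial ℤ) ∣ ∑ i ∈ Finset.range m, (Polynomial.X : Polynomial ℤ) ^ i -
        (m : Polynomial ℤ) := by
      have h2 : ∑ i ∈ Finset.range m, (Polynomial.X : Polynomial ℤ) ^ i - (m : Polynomial ℤ) =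
          ∑ i ∈ Finset.range m, ((Polynomial.X : Polynomial ℤ) ^ i - 1) := by
        rw [Finset.sum_sub_distrib]; simp
      rw [h2]
      exact Finset.dvd_sum fun i _ => by simpa using sub_dvd_pow_sub_pow (Polynomial.X : Polynomial ℤ) 1 i
    obtain ⟨b, hb⟩ := h1
    exact ⟨b, by rw [← hb]; ring⟩
  -- `c = m^k` is a multiple of `N` modulo `(X-1)^k`
  have h3 : (m : Polynomial ℤ) + (Polynomial.X - 1) * b ∣ (m : Polynomial ℤ) ^ k - (-((Polynomial.X - 1) * b)) ^ k := by
    have := sub_dvd_pow_sub_pow (m : Polynomial ℤ) (-((Polynomial.X - 1) * b)) k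
    simpa using this
  obtain ⟨e, he⟩ := h3
  have hX : Polynomial.aeval s ((-((Polynomial.X - 1 : Polynomial ℤ) * b)) ^ k) = 0 := by
    rw [neg_pow, mul_pow, map_mul, map_mul, map_pow (Polynomial.aeval s) (Polynomial.X - 1), map_sub,
      Polynomial.aeval_X, map_one, hs, zero_mul, mul_zero]
  let N : AddMonoid.End M := Polynomial.aeval s (∑ i ∈ Finset.range m, (Polynomial.X : Polynomial ℤ) ^ i)
  have hN : Polynomial.aeval s ((∑ i ∈ Finset.range m, (Polynomial.X : Polynomial ℤ) ^ i) * e) =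
      (((m : ℤ) ^ k : ℤ) : AddMonoid.End M) := by
    rw [hb, ← he, map_sub, hX, sub_zero]
    simp
  refine ⟨N, ⟨Polynomial.aeval s e, (m : ℤ) ^ k, pow_ne_zero k (by exact_mod_cast hm), ?_, ?_⟩, ?_, ?_⟩
  · rw [← hN, mul_comm _ e, map_mul]
  · rw [← hN, map_mul]
  · have := congrArg (Polynomial.aeval s) ((mul_comm _ _).trans (geom_sum_mul (Polynomial.X : Polynomial ℤ) m))
    rw [map_mul, map_sub, map_sub, Polynomial.aeval_X, map_one, map_pow, Polynomial.aeval_X] at this
    exact this.symm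
  · have := congrArg (Polynomial.aeval s) (geom_sum_mul (Polynomial.X : Polynomial ℤ) m)
    rw [map_mul, map_sub, map_sub, Polynomial.aeval_X, map_one, map_pow, Polynomial.aeval_X] at this
    exact this.symm

/-- level two on powers implies level two, when the operators are trivial on `q`-torsion. -/
theorem mul_eq_zero_of_pow {l : ℕ} (hl : l.Prime) (h : TorsDiv M l) {s t : AddMonoid.End M}
    {m n : ℕ}
    (hs : ∃ N : AddMonoid.End M, QInv N ∧ s ^ m - 1 = (s - 1) * N ∧ s ^ m - 1 = N * (s - 1))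
    (ht : ∃ N : AddMonoid.End M, QInv N ∧ t ^ n - 1 = (t - 1) * N ∧ t ^ n - 1 = N * (t - 1))
    (hst : (s ^ m - 1) * (t ^ n - 1) = 0) : (s - 1) * (t - 1) = 0 := by
  obtain ⟨N, hN, -, h1⟩ := hs
  obtain ⟨N', hN', h2, -⟩ := ht
  refine eq_zero_of_qinv hl h hN hN' ?_
  rw [← hst, h1, h2]
  simp only [mul_assoc]

end End

end Groth.Agent.Sga7.H733.LevelTwoAlg
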