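import Groth.Agent.Sga7.H733.LevelTwoAlg
import Mathlib.Algebra.Group.Subgroup.Basic
import Mathlib.Algebra.Group.TypeTags.Hom

/-!
# Level two on an abelian group written multiplicatively

`P` a commutative group with `ℓ`-divisible `ℓ`-power torsion, `s, t` endomorphisms of `P`.
-/

set_option autoImplicit false

namespace Groth.Agent.Sga7.H733.LevelTwoGrp

open Groth.Agent.Sga7.H733.LevelTwoAlg

variable {P : Type*} [CommGroup P]

/-- the `ℓ`-power torsion. -/
def tp (P : Type*) [CommGroup P] (l : ℕ) : Subgroup P where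
  carrier := {x | ∃ ν : ℕ, x ^ (l ^ ν) = 1}
  one_mem' := ⟨0, by simp⟩
  mul_mem' := by
    rintro x y ⟨a, ha⟩ ⟨b, hb⟩
    refine ⟨a + b, ?_⟩
    rw [mul_pow]
    nth_rewrite 1 [pow_add]
    rw [pow_mul, ha, one_pow, one_mul, add_comm, pow_add, pow_mul, hb, one_pow]
  inv_mem' := by
    rintro x ⟨a, ha⟩
    exact ⟨a, by rw [inv_pow, ha, inv_one]⟩

lemma mem_tp {l : ℕ} {x : P} : x ∈ tp P l ↔ ∃ ν : ℕ, x ^ (l ^ ν) = 1 := Iff.rfl

lemma map_mem_tp {l : ℕ} (s : P →* P) {x : P} (hx : x ∈ tp P l) : s x ∈ tp P l := by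
  obtain ⟨a, ha⟩ := hx
  exact ⟨a, by rw [← map_pow, ha, map_one]⟩

/-- restriction of an endomorphism to the torsion, additive notation. -/
def res (l : ℕ) (s : P →* P) : AddMonoid.End (Additive (tp P l)) :=
  MonoidHom.toAdditive ((s.comp (tp P l).subtype).codRestrict (tp P l) fun x => map_mem_tp s x.2)

@[simp] lemma res_apply (l : ℕ) (s : P →* P) (x : Additive (tp P l)) :
    ((Additive.toMul (res l s x) : tp P l) : P) = s ((Additive.toMul x : tp P l) : P) := rfl

lemma res_pow_apply (l : ℕ) (s : P →* P) (n : ℕ) (x : Additive (tp P l)) :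
    ((Additive.toMul ((res l s ^ n) x) : tp P l) : P) = (s^[n]) ((Additive.toMul x : tp P l) : P) := by
  induction n generalizing x with
  | zero => rfl
  | succ n ih =>
    rw [pow_succ, Function.iterate_succ_apply, ← res_apply, ← ih]
    rfl

/-- `(σ - 1) x` written multiplicatively -/
def dv (f : P → P) (x : P) : P := f x * x⁻¹

lemma res_sub_one_apply (l : ℕ) (s : P →* P) (x : Additive (tp P l)) :
    ((Additive.toMul ((res l s - 1) x) : tp P l) : P) = dv s ((Additive.toMul x : tp P l) : P) := by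
  have : (res l s - 1) x = res l s x - x := rfl
  rw [this, dv, ← res_apply, toMul_sub, div_eq_mul_inv]
  rfl

lemma res_pow_sub_one_apply (l : ℕ) (s : P →* P) (n : ℕ) (x : Additive (tp P l)) :
    ((Additive.toMul ((res l s ^ n - 1) x) : tp P l) : P) =
      dv (s^[n]) ((Additive.toMul x : tp P l) : P) := by
  have : (res l s ^ n - 1) x = (res l s ^ n) x - x := rfl
  rw [this, dv, ← res_pow_apply, toMul_sub, div_eq_mul_inv]
  rfl

lemma torsDiv {l : ℕ} (hdiv : ∀ x : P, x ∈ tp P l → ∃ y : P, y ^ l = x) :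
    TorsDiv (Additive (tp P l)) l where
  tors x := by
    obtain ⟨ν, hν⟩ := (Additive.toMul x : tp P l).2
    refine ⟨ν, ?_⟩
    apply Additive.toMul.injective
    apply Subtype.ext
    simpa using hν
  div x := by
    obtain ⟨y, hy⟩ := hdiv _ (Additive.toMul x : tp P l).2
    have hy' : y ∈ tp P l := by
      obtain ⟨ν, hν⟩ := (Additive.toMul x : tp P l).2
      exact ⟨ν + 1, by rw [pow_succ', pow_mul, hy, hν]⟩
    refine ⟨Additive.ofMul ⟨y, hy'⟩, ?_⟩
    apply Additive.toMul.injective
    apply Subtype.ext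
    simpa using hy

/-- The abstract statement: level two on powers implies level two. -/
theorem levelTwo {l : ℕ} (hl : l.Prime)
    (hdiv : ∀ x : P, x ∈ tp P l → ∃ y : P, y ^ l = x) (s t : P →* P) {m n : ℕ} (hm : m ≠ 0)
    (hn : n ≠ 0)
    (hs : (∃ q, Adm l q ∧ ∀ x : P, x ^ q = 1 → s x = x) ∨ (∃ k : ℕ, ∀ x ∈ tp P l, (dv s)^[k] x = 1))
    (ht : (∃ q, Adm l q ∧ ∀ x : P, x ^ q = 1 → t x = x) ∨ (∃ k : ℕ, ∀ x ∈ tp P l, (dv t)^[k] x = 1))
    (h : ∀ x ∈ tp P l, dv (s^[m]) (dv (t^[n]) x) = 1) (x : P) (hx : x ∈ tp P l) :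
    dv s (dv t x) = 1 := by
  have hT := torsDiv hdiv
  have aux : ∀ (s : P →* P) {m : ℕ} (_ : m ≠ 0)
      (_ : (∃ q, Adm l q ∧ ∀ x : P, x ^ q = 1 → s x = x) ∨
        (∃ k : ℕ, ∀ x ∈ tp P l, (dv s)^[k] x = 1)),
      ∃ N : AddMonoid.End (Additive (tp P l)), QInv N ∧ res l s ^ m - 1 = (res l s - 1) * N ∧
        res l s ^ m - 1 = N * (res l s - 1) := by
    intro s m hm hs
    rcases hs with ⟨q, hlq, hq⟩ | ⟨k, hk⟩
    · refine exists_pow_sub_one hlq hT _ (fun x hx => ?_) hm
      apply Additive.toMul.injective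
      apply Subtype.ext
      rw [res_apply]
      refine hq _ ?_
      have := congrArg (fun y : Additive (tp P l) => ((Additive.toMul y : tp P l) : P)) hx
      simpa using this
    · refine exists_pow_sub_one_of_unip _ (k := k) ?_ hm
      ext x
      have h1 : ∀ (k : ℕ) (x : Additive (tp P l)),
          ((Additive.toMul (((res l s - 1) ^ k) x) : tp P l) : P) =
            (dv s)^[k] ((Additive.toMul x : tp P l) : P) := by
        intro k
        induction k with
        | zero => intro x; rfl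
        | succ k ih =>
          intro x
          rw [pow_succ, Function.iterate_succ_apply, ← res_sub_one_apply, ← ih]
          rfl
      have h2 := (h1 k x).trans (hk _ (Additive.toMul x : tp P l).2)
      exact h2
  have key := mul_eq_zero_of_pow hl hT (aux s hm hs) (aux t hn ht) (by
    ext y
    have e : ((Additive.toMul (((res l s ^ m - 1) * (res l t ^ n - 1)) y) : tp P l) : P) =
        dv (s^[m]) (dv (t^[n]) ((Additive.toMul y : tp P l) : P)) := by
      rw [← res_pow_sub_one_apply, ← res_pow_sub_one_apply]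
      rfl
    exact e.trans (h _ (Additive.toMul y : tp P l).2))
  have h3 := congrArg (fun f : AddMonoid.End (Additive (tp P l)) =>
    ((Additive.toMul (f (Additive.ofMul ⟨x, hx⟩)) : tp P l) : P)) key
  have h4 : ((Additive.toMul (((res l s - 1) * (res l t - 1)) (Additive.ofMul ⟨x, hx⟩)) : tp P l) : P) =
      dv s (dv t x) := by
    have h5 : ((res l s - 1) * (res l t - 1)) (Additive.ofMul ⟨x, hx⟩) =
      (res l s - 1) ((res l t - 1) (Additive.ofMul ⟨x, hx⟩)) := rfl
    rw [h5, res_sub_one_apply, res_sub_one_apply]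
    rfl
  rw [← h4]
  exact h3

end Groth.Agent.Sga7.H733.LevelTwoGrp
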