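import Groth.Agent.Sga7.H733.PtsBasic
import Groth.Agent.Sga7.H733.LevelTwoGrp

/-!
# Level two on an open subgroup and triviality on a small torsion imply level two

`levelTwoOn`: if `(σ - 1)(τ - 1)` kills the `ℓ`-power torsion for `σ, τ` in the inertia group which lie in
an open subgroup, and every element of the inertia group is either trivial on `A[ℓ]` (`ℓ` odd), on `A[4]`
(`ℓ = 2`), or unipotent on the Tate module, then inertia has level two.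
-/

set_option autoImplicit false
universe u
open CategoryTheory CategoryTheory.Limits AlgebraicGeometry MonObj

namespace Groth.Agent.Sga7.H733.LevelTwoOfOpen

open SGA7 Groth.Agent.Sga7.H733.PtsBasic Groth.Agent.Sga7.H733.LevelTwoGrp
open Groth.Agent.Sga7.H733.LevelTwoAlg

variable {K : Type u} [Field K] {Ω : Type u} [Field Ω] [Algebra K Ω] [IsSepClosure K Ω]
  (W : ValuationSubring Ω)
  (A : Over (Spec (CommRingCat.of K))) [GrpObj A] [IsProper A.hom] [GeometricallyIntegral A.hom]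

/-- conditions on a single inertia element under which powers can be removed. -/
def Nice (A : Over (Spec (CommRingCat.of K))) [GrpObj A] (ℓ : ℕ) (σ : Ω ≃ₐ[K] Ω) : Prop :=
  (∃ q, Adm ℓ q ∧ ∀ x : Pts Ω A, x ^ q = 1 → galAct σ x = x) ∨
    (∃ m : ℕ, ∀ (ν : ℕ) (x : Pts Ω A), x ^ (ℓ ^ ν) = 1 → (dev σ)^[m] x = 1)

theorem levelTwoOn_of_nice {ℓ : ℕ} (hℓ : ℓ.Prime) (hℓK : (ℓ : K) ≠ 0)
    (π' : OpenSubgroup (Ω ≃ₐ[K] Ω))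
    (hπ : ∀ (ν : ℕ) (σ τ : Ω ≃ₐ[K] Ω), σ ∈ π' → τ ∈ π' →
      SGA7.IsInertia W σ → SGA7.IsInertia W τ →
        ∀ x : SGA7.Pts Ω A, x ^ (ℓ ^ ν) = 1 → SGA7.dev σ (SGA7.dev τ x) = 1)
    (hnice : ∀ σ : Ω ≃ₐ[K] Ω, IsInertia W σ → Nice A ℓ σ) :
    InertiaLevelTwoOn W A ℓ := by
  haveI : IsSepClosed Ω := IsSepClosure.sep_closed K
  haveI : IsCommMonObj A := isCommMonObj_of_isProper_of_geometricallyIntegral A
  letI : CommGroup (Pts Ω A) := Hom.commGroup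
  intro ν σ τ hσ hτ x hx
  obtain ⟨m, hm, hσm⟩ := exists_pow_mem π' σ
  obtain ⟨n, hn, hτn⟩ := exists_pow_mem π' τ
  have hdv : ∀ (σ : Ω ≃ₐ[K] Ω), dv (galHom A σ) = dev (A := A) σ := fun σ => rfl
  have hnice' : ∀ σ : Ω ≃ₐ[K] Ω, IsInertia W σ →
      (∃ q, Adm ℓ q ∧ ∀ x : Pts Ω A, x ^ q = 1 → galHom A σ x = x) ∨
        (∃ k : ℕ, ∀ x ∈ tp (Pts Ω A) ℓ, (dv (galHom A σ))^[k] x = 1) := by
    intro σ hσ
    rcases hnice σ hσ with h | ⟨k, hk⟩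
    · exact Or.inl h
    · exact Or.inr ⟨k, fun x ⟨ν, hx⟩ => hk ν x hx⟩
  have hiter : ∀ (σ : Ω ≃ₐ[K] Ω) (m : ℕ), (galHom A σ)^[m] = galHom A (σ ^ m) := by
    intro σ m
    funext x
    exact (galAct_pow σ m x).symm
  refine levelTwo (P := Pts Ω A) hℓ (fun x _ => exists_pow_eq A hℓK x) (galHom A σ) (galHom A τ)
    hm hn (hnice' σ hσ) (hnice' τ hτ) ?_ x ⟨ν, hx⟩
  rintro x ⟨ν, hx⟩
  rw [hiter, hiter]
  exact hπ ν (σ ^ m) (τ ^ n) hσm hτn (isInertia_pow hσ m) (isInertia_pow hτ n) x hx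

/-- inertia trivial on `A[n]`, `ℓ ∣ n` odd or `4 ∣ n`. -/
theorem levelTwoOn_of_trivial {ℓ : ℕ} (hℓ : ℓ.Prime) (hℓK : (ℓ : K) ≠ 0)
    (π' : OpenSubgroup (Ω ≃ₐ[K] Ω))
    (hπ : ∀ (ν : ℕ) (σ τ : Ω ≃ₐ[K] Ω), σ ∈ π' → τ ∈ π' →
      SGA7.IsInertia W σ → SGA7.IsInertia W τ →
        ∀ x : SGA7.Pts Ω A, x ^ (ℓ ^ ν) = 1 → SGA7.dev σ (SGA7.dev τ x) = 1)
    {n : ℕ} (hn : ℓ ≠ 2 ∧ ℓ ∣ n ∨ ℓ = 2 ∧ 4 ∣ n) (h : InertiaTrivialOn W A n) :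
    InertiaLevelTwoOn W A ℓ := by
  refine levelTwoOn_of_nice W A hℓ hℓK π' hπ fun σ hσ => Or.inl ?_
  rcases hn with ⟨h2, hd⟩ | ⟨h2, hd⟩
  · refine ⟨ℓ, ⟨hℓ, Or.inl ⟨h2, rfl⟩⟩, fun x hx => h σ hσ x ?_⟩
    obtain ⟨d, rfl⟩ := hd
    rw [pow_mul, hx, one_pow]
  · refine ⟨4, ⟨hℓ, Or.inr ⟨h2, rfl⟩⟩, fun x hx => h σ hσ x ?_⟩
    obtain ⟨d, rfl⟩ := hd
    rw [pow_mul, hx, one_pow]

/-- inertia unipotent on the Tate module. -/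
theorem levelTwoOn_of_unipotent {ℓ : ℕ} (hℓ : ℓ.Prime) (hℓK : (ℓ : K) ≠ 0)
    (π' : OpenSubgroup (Ω ≃ₐ[K] Ω))
    (hπ : ∀ (ν : ℕ) (σ τ : Ω ≃ₐ[K] Ω), σ ∈ π' → τ ∈ π' →
      SGA7.IsInertia W σ → SGA7.IsInertia W τ →
        ∀ x : SGA7.Pts Ω A, x ^ (ℓ ^ ν) = 1 → SGA7.dev σ (SGA7.dev τ x) = 1)
    (h : InertiaUnipotentOn W A ℓ) :
    InertiaLevelTwoOn W A ℓ :=
  levelTwoOn_of_nice W A hℓ hℓK π' hπ fun σ hσ => Or.inr (h σ hσ)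

/-- level two implies unipotent -/
theorem unipotentOn_of_levelTwoOn {ℓ : ℕ} (h : InertiaLevelTwoOn W A ℓ) :
    InertiaUnipotentOn W A ℓ :=
  fun σ hσ => ⟨2, fun ν x hx => h ν σ σ hσ hσ x hx⟩

/-- an integer `n ≥ 3` is divisible by an odd prime or by 4. -/
lemma exists_prime_or_four {n : ℕ} (hn : 3 ≤ n) :
    ∃ ℓ : ℕ, ℓ.Prime ∧ (ℓ ≠ 2 ∧ ℓ ∣ n ∨ ℓ = 2 ∧ 4 ∣ n) := by
  by_cases h : ∃ ℓ : ℕ, ℓ.Prime ∧ ℓ ≠ 2 ∧ ℓ ∣ n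
  · obtain ⟨ℓ, h1, h2, h3⟩ := h
    exact ⟨ℓ, h1, Or.inl ⟨h2, h3⟩⟩
  · push Not at h
    obtain ⟨k, hk⟩ : ∃ k, n = 2 ^ k := by
      refine ⟨n.primeFactorsList.length, ?_⟩
      refine Nat.eq_prime_pow_of_unique_prime_dvd (by omega) ?_
      intro d hd hdn
      by_contra hne
      exact h d hd hne hdn
    refine ⟨2, Nat.prime_two, Or.inr ⟨rfl, ?_⟩⟩
    have hk2 : 2 ≤ k := by
      by_contra hlt
      have : k = 0 ∨ k = 1 := by omega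
      rcases this with rfl | rfl
      · simp at hk; omega
      · simp at hk; omega
    rw [hk]
    exact (by norm_num : (4 : ℕ) = 2 ^ 2) ▸ pow_dvd_pow 2 hk2

/-- the form used for Raynaud's criterion. -/
theorem exists_levelTwoOn_of_trivial (R : Type u) [CommRing R] [IsLocalRing R]
    [Algebra R K] (hinj : Function.Injective (algebraMap R K)) {n : ℕ} (hn : 3 ≤ n)
    (hnp : (n : IsLocalRing.ResidueField R) ≠ 0)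
    (h : InertiaTrivialOn W A n)
    (hopen : ∀ ℓ : ℕ, ℓ.Prime → (ℓ : IsLocalRing.ResidueField R) ≠ 0 →
      ∃ π' : OpenSubgroup (Ω ≃ₐ[K] Ω), ∀ (ν : ℕ) (σ τ : Ω ≃ₐ[K] Ω), σ ∈ π' → τ ∈ π' →
        SGA7.IsInertia W σ → SGA7.IsInertia W τ →
          ∀ x : SGA7.Pts Ω A, x ^ (ℓ ^ ν) = 1 → SGA7.dev σ (SGA7.dev τ x) = 1) :
    ∃ ℓ : ℕ, ℓ.Prime ∧ (ℓ : IsLocalRing.ResidueField R) ≠ 0 ∧ InertiaLevelTwoOn W A ℓ := by
  obtain ⟨ℓ, hℓ, hd⟩ := exists_prime_or_four hn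
  have hdvd : ℓ ∣ n := by
    rcases hd with ⟨-, hd⟩ | ⟨rfl, hd⟩
    · exact hd
    · exact dvd_trans (by norm_num) hd
  have hℓp : (ℓ : IsLocalRing.ResidueField R) ≠ 0 := by
    intro h0
    apply hnp
    obtain ⟨d, rfl⟩ := hdvd
    rw [Nat.cast_mul, h0, zero_mul]
  obtain ⟨π', hπ⟩ := hopen ℓ hℓ hℓp
  have hℓK : (ℓ : K) ≠ 0 := by
    intro h0
    apply hℓp
    have h1 : algebraMap R K (ℓ : R) = 0 := by rw [map_natCast, h0]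
    have h2 : (ℓ : R) = 0 := hinj (by rw [h1, map_zero])
    rw [← map_natCast (IsLocalRing.residue R), h2, map_zero]
  exact ⟨ℓ, hℓ, hℓp, levelTwoOn_of_trivial W A hℓ hℓK π' hπ hd h⟩

end Groth.Agent.Sga7.H733.LevelTwoOfOpen
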