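import Groth.Agent.Sga7.H733.BCProps
import Groth.Agent.Sga7.H733.Eig
import Mathlib.AlgebraicGeometry.FunctionField

/-!
# Spaces of rational functions with bounded poles
-/

set_option autoImplicit false
universe u

open CategoryTheory CategoryTheory.Limits MonoidalCategory CartesianMonoidalCategory AlgebraicGeometry TopologicalSpace
open scoped MonObj

namespace Groth.Agent.Sga7.H733.Poles

open Groth.Agent.Sga7.H730.Dv Groth.Agent.Sga7.H730.Tr Groth.Agent.Grpsch.GrowthFF
open Groth.Agent.Sga7.H733.Eff Groth.Agent.Sga7.H733.BCProps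

variable {k : Type u} [Field k] (H : Over (Spec (CommRingCat.of k))) [AlgebraicGeometry.IsIntegral H.left]

attribute [local instance] Groth.Agent.Sga7.H733.Eff.kAlg

lemma finiteType_kSec [LocallyOfFiniteType H.hom] {V : H.left.Opens} (hV : IsAffineOpen V) :
    (Eff.kSec H V).FiniteType := by
  letI : H.left.Over (Spec (CommRingCat.of k)) := ⟨H.hom⟩
  have h1 := H.hom.finiteType_appLE (isAffineOpen_top _) hV (by simp)
  have h2 : ((Scheme.ΓSpecIso (CommRingCat.of k)).inv.hom).FiniteType :=
    RingHom.FiniteType.of_surjective _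
      (ConcreteCategory.bijective_of_isIso (Scheme.ΓSpecIso (CommRingCat.of k)).inv).2
  have h3 := h1.comp h2
  have h4 : Eff.kSec H V = (H.hom.appLE ⊤ V (by simp)).hom.comp
      (Scheme.ΓSpecIso (CommRingCat.of k)).inv.hom := by
    ext c
    simp only [Eff.kSec, Groth.Agent.Grpsch.GrowthFF.kSec, Scheme.Hom.appLE, CommRingCat.hom_comp,
      RingHom.comp_apply]
    rfl
  rw [h4]
  exact h3

/-- the pole data attached to an affine open `V` -/
theorem exists_poles (hFD : FD k) [LocallyOfFiniteType H.hom] (V : H.left.Opens) (hV : IsAffineOpen V)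
    (hη : genericPoint H.left ∈ V) :
    ∃ (m : ℕ) (R : Fin m → ValuationSubring H.left.functionField), (∀ j, IsDiscreteValuationRing (R j)) ∧
      (∀ j (a : k), kF H a ∈ R j) ∧
      ∀ c : Fin m → H.left.functionField, (∀ j, c j ≠ 0) →
        ∃ V' : Submodule k H.left.functionField, Module.Finite k V' ∧
          ∀ φ : H.left.functionField, (∀ p ∈ V, φ ∈ O H.left p) → (∀ j, c j * φ ∈ R j) → φ ∈ V' := by
  haveI : Nonempty V := ⟨⟨_, hη⟩⟩
  letI : Algebra k Γ(H.left, V) := (Eff.kSec H V).toAlgebra
  haveI : Algebra.FiniteType k Γ(H.left, V) := finiteType_kSec H hV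
  haveI : IsFractionRing Γ(H.left, V) H.left.functionField :=
    functionField_isFractionRing_of_isAffineOpen H.left V hV
  haveI : IsScalarTower k Γ(H.left, V) H.left.functionField := by
    refine IsScalarTower.of_algebraMap_eq fun c => ?_
    exact kF_eq_germ H V hη c
  obtain ⟨m, R, hR, hk, hfin⟩ := hFD Γ(H.left, V) H.left.functionField
  refine ⟨m, R, hR, hk, fun c hc => ?_⟩
  obtain ⟨V', hV', h⟩ := hfin c hc
  refine ⟨V'.map (IsScalarTower.toAlgHom k Γ(H.left, V) H.left.functionField).toLinearMap, inferInstance, ?_⟩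
  intro φ hφ hφ'
  obtain ⟨s, rfl⟩ := exists_section V hη φ hφ
  exact ⟨s, h s hφ', rfl⟩

end Groth.Agent.Sga7.H733.Poles
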