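import Groth.Agent.Sga7.H733.Poles

/-!
# A cocycle with constant defect attached to an invariant divisor class
-/

set_option autoImplicit false
universe u

open CategoryTheory CategoryTheory.Limits MonoidalCategory CartesianMonoidalCategory AlgebraicGeometry TopologicalSpace
open scoped MonObj

namespace Groth.Agent.Sga7.H733.Split

open Groth.Agent.Sga7.H730.Dv Groth.Agent.Sga7.H730.Tr Groth.Agent.Grpsch.GrowthFF
open Groth.Agent.Sga7.H733.Eff Groth.Agent.Sga7.H733.BCProps Groth.Agent.Sga7.H733.Poles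

variable {k : Type u} [Field k] {H : Over (Spec (CommRingCat.of k))} [GrpObj H] [IsCommMonObj H]
  [AlgebraicGeometry.IsIntegral H.left]

attribute [local instance] Groth.Agent.Sga7.H733.Eff.kAlg

/-- if `D` is effective and trivial on `V` then an `f` with `div f + D ≥ 0` is regular on `V` -/
lemma mem_O_of_ge {D : Dvs H.left} {f : H.left.functionFieldˣ} (h : Ge (dv f * D)) {p : H.left} (hp : D p = 1) :
    (f : H.left.functionField) ∈ O H.left p := by
  refine h.mem_O (p := p) (φ := f) ?_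
  rw [Dvs.mul_apply, hp]
  exact mul_one (M := H.left.functionFieldˣ ⧸ UU H.left p) _

theorem exists_cocycle [IsAlgClosed k] [LocallyOfFiniteType H.hom] [QuasiCompact H.hom]
    [IsSeparated H.hom] (hGV : GV k) (hFD : FD k)
    (W : Subgroup (𝟙_ (Over (Spec (CommRingCat.of k))) ⟶ H)) {l : ℕ}
    (htor : ∀ x : W, ∃ n : ℕ, x ^ (l ^ n) = 1) (hdiv : ∀ x : W, ∃ y : W, y ^ l = x)
    (D : Dvs H.left) (hD : Eff D) (V : H.left.Opens) (hV : IsAffineOpen V)
    (hη : genericPoint H.left ∈ V) (hVD : ∀ p ∈ V, D p = 1)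
    (hW : ∀ x : W, ∃ f : H.left.functionFieldˣ, dv f * D = td x.1 D) :
    ∃ f : W → H.left.functionFieldˣ, (∀ x : W, dv (f x) * D = td x.1 D) ∧
      (∀ x y : W, ∃ c : kˣ, f (x * y) = kU H c * (f x * ta x.1 (f y))) ∧
      FiniteDimensional k (Submodule.span k (Set.range fun x : W => (f x : H.left.functionField))) := by
  obtain ⟨m, R, hR, hk, hfin⟩ := exists_poles H hFD V hV hη
  have hGV' : ∀ j, ∃ w : H.left.functionFieldˣ →* Multiplicative ℤ,
      (∀ (x : 𝟙_ (Over (Spec (CommRingCat.of k))) ⟶ H) (f : H.left.functionFieldˣ), w (ta x f) = w f) ∧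
      ∀ D : Dvs H.left, Eff D → ∃ c : H.left.functionFieldˣ, ∀ f : H.left.functionFieldˣ,
        Eff (dv f * D) → 1 ≤ w f → (c * f : H.left.functionField) ∈ R j := fun j => by
    haveI := hR j
    exact hGV H (R j) (hk j)
  choose w hw hwD using hGV'
  choose cD hcD using fun j => hwD j D hD
  choose c1 hc1 using fun j => hwD j 1 Eff.one
  obtain ⟨VD, hVDfin, hVDmem⟩ := hfin (fun j => cD j) (fun j => (cD j).ne_zero)
  obtain ⟨V1, hV1fin, hV1mem⟩ := hfin (fun j => c1 j) (fun j => (c1 j).ne_zero)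
  -- the vector of valuations
  let ψ : H.left.functionFieldˣ → (Fin m → ℤ) := fun g j => Multiplicative.toAdd (w j g)
  have ψmul : ∀ g h, ψ (g * h) = ψ g + ψ h := fun g h => by
    funext j
    change Multiplicative.toAdd (w j (g * h)) = _
    rw [map_mul, toAdd_mul]
    rfl
  have ψinv : ∀ g, ψ g⁻¹ = - ψ g := fun g => by
    funext j
    change Multiplicative.toAdd (w j g⁻¹) = _
    rw [map_inv, toAdd_inv]
    rfl
  have ψone : ψ 1 = 0 := by
    funext j
    change Multiplicative.toAdd (w j 1) = _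
    rw [map_one]
    rfl
  have ψta : ∀ (x : 𝟙_ (Over (Spec (CommRingCat.of k))) ⟶ H) g, ψ (ta x g) = ψ g := fun x g => by
    funext j
    change Multiplicative.toAdd (w j (ta x g)) = _
    rw [hw]
  have hle : ∀ g, ψ g = 0 → ∀ j, 1 ≤ w j g := fun g hg j => by
    have h1 : Multiplicative.toAdd (w j g) = 0 := congrFun hg j
    have h2 : w j g = 1 := Multiplicative.toAdd.injective h1
    rw [h2]
  -- units with zero valuations are constant
  have hconst : ∀ u : H.left.functionFieldˣ, dv u = 1 → ψ u = 0 → ∃ c : kˣ, u = kU H c := by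
    intro u hu hu'
    have h1 : ∀ n : ℕ, (u : H.left.functionField) ^ n ∈ V1 := by
      intro n
      have hdvn : dv (u ^ n) = 1 := by rw [map_pow, hu, one_pow]
      have hψn : ψ (u ^ n) = 0 := by
        induction n with
        | zero => rw [pow_zero, ψone]
        | succ n ih =>
          rw [pow_succ, ψmul, hu', add_zero]
          exact ih (by rw [map_pow, hu, one_pow])
      have h2 : (u : H.left.functionField) ^ n = ((u ^ n : H.left.functionFieldˣ) : H.left.functionField) :=
        (Units.val_pow_eq_pow_val u n).symm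
      rw [h2]
      refine hV1mem _ (fun p _ => ?_) (fun j => ?_)
      · exact (dv_eq_one_iff.mp hdvn p).1
      · refine hc1 j _ ?_ (hle _ hψn j)
        rw [hdvn, one_mul]
        exact Eff.one
    obtain ⟨c, hc⟩ := Eig.exists_const V1 (u : H.left.functionField) h1
    have hc0 : c ≠ 0 := by
      rintro rfl
      rw [map_zero] at hc
      exact u.ne_zero hc.symm
    exact ⟨Units.mk0 c hc0, Units.ext hc.symm⟩
  -- the group of valuations of units
  let Λ : AddSubgroup (Fin m → ℤ) :=
    { carrier := {v | ∃ u : H.left.functionFieldˣ, dv u = 1 ∧ ψ u = v}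
      zero_mem' := ⟨1, map_one _, ψone⟩
      add_mem' := by
        rintro _ _ ⟨u, hu, rfl⟩ ⟨u', hu', rfl⟩
        exact ⟨u * u', by rw [map_mul, hu, hu', one_mul], ψmul u u'⟩
      neg_mem' := by
        rintro _ ⟨u, hu, rfl⟩
        exact ⟨u⁻¹, by rw [map_inv, hu, inv_one], ψinv u⟩ }
  let Λ' : Submodule ℤ (Fin m → ℤ) := AddSubgroup.toIntSubmodule Λ
  have hΛ' : ∀ v, v ∈ Λ' ↔ ∃ u : H.left.functionFieldˣ, dv u = 1 ∧ ψ u = v := fun v => Iff.rfl
  choose f₀ hf₀ using hW
  -- the divisor of the cocycle defect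
  have hdef : ∀ (f : W → H.left.functionFieldˣ), (∀ x : W, dv (f x) * D = td x.1 D) →
      ∀ x y : W, dv (f (x * y) * (f x * ta x.1 (f y))⁻¹) = 1 := by
    intro f hf x y
    have h1 : dv (f x * ta x.1 (f y)) * D = td (x * y).1 D := by
      have h2 : (x * y).1 = y.1 * x.1 := by rw [Subgroup.coe_mul, mul_comm]
      rw [h2, td_mul, ← hf y, map_mul dv, map_mul (td _), td_dv, ← hf x]
      simp only [mul_comm, mul_left_comm, mul_assoc]
    have h3 : dv (f (x * y)) = dv (f x * ta x.1 (f y)) :=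
      mul_right_cancel ((hf (x * y)).trans h1.symm)
    rw [map_mul, map_inv, h3, mul_inv_cancel]
  let φ : Additive W →+ ((Fin m → ℤ) ⧸ Λ') := AddMonoidHom.mk'
    (fun x => Submodule.Quotient.mk (ψ (f₀ x.toMul))) (by
      intro x y
      rw [← Submodule.Quotient.mk_add, Submodule.Quotient.eq, hΛ']
      refine ⟨_, hdef f₀ hf₀ x.toMul y.toMul, ?_⟩
      rw [ψmul, ψinv, ψmul, ψta, toMul_add, ← sub_eq_add_neg])
  have hφ : ∀ x : W, (Submodule.Quotient.mk (ψ (f₀ x)) : (Fin m → ℤ) ⧸ Λ') = 0 := by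
    intro x
    refine Eig.hom_eq_zero (l := l) ?_ ?_ φ (Additive.ofMul x)
    · intro x
      obtain ⟨n, hn⟩ := htor x.toMul
      exact ⟨n, hn⟩
    · intro x
      obtain ⟨y, hy⟩ := hdiv x.toMul
      exact ⟨Additive.ofMul y, hy⟩
  have hu : ∀ x : W, ∃ u : H.left.functionFieldˣ, dv u = 1 ∧ ψ u = ψ (f₀ x) := fun x =>
    (hΛ' _).mp ((Submodule.Quotient.mk_eq_zero _).mp (hφ x))
  choose u hu hu' using hu
  obtain ⟨f, hf, hψf⟩ : ∃ f : W → H.left.functionFieldˣ, (∀ x : W, dv (f x) * D = td x.1 D) ∧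
      ∀ x, ψ (f x) = 0 := by
    refine ⟨fun x => f₀ x * (u x)⁻¹, fun x => ?_, fun x => ?_⟩
    · rw [map_mul, map_inv, hu, inv_one, mul_one, hf₀]
    · rw [ψmul, ψinv, hu', add_neg_cancel]
  refine ⟨f, hf, ?_, ?_⟩
  · intro x y
    obtain ⟨c, hc⟩ := hconst _ (hdef f hf x y) (by
      rw [ψmul, ψinv, ψmul, ψta, hψf, hψf, hψf, add_zero, neg_zero, add_zero])
    refine ⟨c, ?_⟩
    rw [← hc, inv_mul_cancel_right]
  · have hle' : Submodule.span k (Set.range fun x : W => (f x : H.left.functionField)) ≤ VD := by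
      rw [Submodule.span_le]
      rintro _ ⟨x, rfl⟩
      have hE : Eff (dv (f x) * D) := by
        rw [hf x]
        exact hD.td x.1
      refine hVDmem _ (fun p hp => ?_) (fun j => ?_)
      · exact mem_O_of_ge hE.ge (hVD p hp)
      · exact hcD j _ hE (hle _ (hψf x) j)
    exact Module.Finite.of_injective (Submodule.inclusion hle') (Submodule.inclusion_injective hle')

end Groth.Agent.Sga7.H733.Split
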