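import Groth.Agent.Sga7.H733.Split
import Groth.Agent.Books.AlgPts

/-!
# An effective divisor whose class is invariant under a dense divisible torsion group is principal
-/

set_option autoImplicit false
universe u

open CategoryTheory CategoryTheory.Limits MonoidalCategory CartesianMonoidalCategory AlgebraicGeometry TopologicalSpace
open scoped MonObj

namespace Groth.Agent.Sga7.H733.Trivialize

open Groth.Agent.Sga7.H730.Dv Groth.Agent.Sga7.H730.Tr Groth.Agent.Grpsch.GrowthFF
open Groth.Agent.Sga7.H733.Eff Groth.Agent.Sga7.H733.BCProps Groth.Agent.Sga7.H733.Poles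
open Groth.Agent.Books.AlgPts Groth.Agent.Dix.Center

section gen

variable {X Y : Scheme.{u}} [AlgebraicGeometry.IsIntegral X] [AlgebraicGeometry.IsIntegral Y]

lemma mem_O_generic (φ : X.functionField) : φ ∈ O X (genericPoint X) := by
  obtain ⟨U, hU, s, rfl⟩ := exists_germ φ
  exact germ_mem_O hU hU s

lemma dvs_generic (D : Dvs X) : D (genericPoint X) = 1 := by
  obtain ⟨φ, hφ⟩ := QuotientGroup.mk_surjective (D (genericPoint X))
  rw [← hφ]
  exact (QuotientGroup.eq_one_iff φ).mpr ⟨mem_O_generic _, mem_O_generic _⟩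

lemma pl_eq_one (f : X ⟶ Y) (h : Dom f) {D : Dvs Y} {p : X} (hD : D (f p) = 1) : pl f h D p = 1 := by
  have h1 : D (f p) = QuotientGroup.mk 1 := hD
  rw [pl_apply f h D p 1 h1, map_one]
  rfl

end gen

variable {k : Type u} [Field k] {H : Over (Spec (CommRingCat.of k))} [GrpObj H]

section inv

variable [AlgebraicGeometry.IsIntegral H.left]

lemma td_eq_one {D : Dvs H.left} {x : 𝟙_ (Over (Spec (CommRingCat.of k))) ⟶ H} {p : H.left}
    (h : D ((tr x).left p) = 1) : td x D p = 1 := pl_eq_one _ _ h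

end inv

lemma pt_tr (h w : 𝟙_ (Over (Spec (CommRingCat.of k))) ⟶ H) : (tr h).left (pt w) = pt (h * w) := by
  rw [← pt_comp, comp_tr]
  congr 2

/-- the translates of a nonempty open subset by a dense subgroup cover. -/
lemma exists_tr_mem [IsAlgClosed k] [IsCommMonObj H] [LocallyOfFiniteType H.hom]
    (W : Subgroup (𝟙_ (Over (Spec (CommRingCat.of k))) ⟶ H)) (hdense : Dense (pt '' (W : Set (𝟙_ (Over (Spec (CommRingCat.of k))) ⟶ H))))
    (U : Set H.left) (hU : IsOpen U) (hne : U.Nonempty) (p : H.left) : ∃ w : W, (tr w.1).left p ∈ U := by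
  by_contra hcon
  push Not at hcon
  -- the complement of the union of the translates is closed and nonempty
  obtain ⟨h, hh⟩ := exists_pt_mem (X := H) (U := {q : H.left | ∀ w : W, (tr w.1).left q ∉ U}) ⟨p, hcon⟩ (by
    have : {q : H.left | ∀ w : W, (tr w.1).left q ∉ U} = ⋂ w : W, (tr w.1).left ⁻¹' Uᶜ := by
      ext q
      simp
    rw [this]
    exact (isClosed_iInter fun w : W => hU.isClosed_compl.preimage (tr w.1 : H ⟶ H).left.continuous).isLocallyClosed)
  haveI := isIso_tr_left h
  have h1 : ((tr h).left ⁻¹' U).Nonempty := by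
    obtain ⟨q, hq⟩ := hne
    obtain ⟨q', rfl⟩ := (tr h).left.surjective q
    exact ⟨q', hq⟩
  obtain ⟨_, hq, ⟨w, hw, rfl⟩⟩ := hdense.inter_open_nonempty _ (hU.preimage (tr h).left.continuous) h1
  apply hh ⟨w, hw⟩
  change (tr w).left (pt h) ∈ U
  rw [pt_tr, mul_comm, ← pt_tr]
  exact hq

variable [IsCommMonObj H] [AlgebraicGeometry.IsIntegral H.left]

attribute [local instance] Groth.Agent.Sga7.H733.Eff.kAlg

/-- translation as a linear map -/
noncomputable def taL (x : 𝟙_ (Over (Spec (CommRingCat.of k))) ⟶ H) :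
    H.left.functionField →ₗ[k] H.left.functionField where
  toFun := sg (tr x).left (dom_tr x)
  map_add' := map_add _
  map_smul' c f := by
    rw [Algebra.smul_def, map_mul, RingHom.id_apply, Algebra.smul_def]
    congr 1
    exact sg_kF (tr x) (dom_tr x) c

lemma taL_coe (x : 𝟙_ (Over (Spec (CommRingCat.of k))) ⟶ H) (f : H.left.functionFieldˣ) :
    taL x (f : H.left.functionField) = (ta x f : H.left.functionField) := rfl

theorem exists_eq_dv [IsAlgClosed k] [LocallyOfFiniteType H.hom] [QuasiCompact H.hom]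
    [IsSeparated H.hom] (hGV : GV k) (hFD : FD k)
    (W : Subgroup (𝟙_ (Over (Spec (CommRingCat.of k))) ⟶ H)) (hdense : Dense (pt '' (W : Set (𝟙_ (Over (Spec (CommRingCat.of k))) ⟶ H)))) {l : ℕ}
    (htor : ∀ x : W, ∃ n : ℕ, x ^ (l ^ n) = 1) (hdiv : ∀ x : W, ∃ y : W, y ^ l = x)
    (D : Dvs H.left) (hD : Eff D) (V : H.left.Opens) (hV : IsAffineOpen V)
    (hη : genericPoint H.left ∈ V) (hVD : ∀ p ∈ V, D p = 1)
    (hW : ∀ x : W, ∃ f : H.left.functionFieldˣ, dv f * D = td x.1 D) :
    ∃ g : H.left.functionFieldˣ, D = dv g := by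
  obtain ⟨f, hf, hc, hfin⟩ := Split.exists_cocycle hGV hFD W htor hdiv D hD V hV hη hVD hW
  obtain ⟨e, he0, hemem, he⟩ := Eig.exists_eigen (k := k) (F := H.left.functionField) (W := W) htor hdiv
    (fun x => taL x.1) (fun x y g => by
      by_cases hg : g = 0
      · rw [hg, map_zero, map_zero, map_zero]
      · have h1 : (x * y).1 = y.1 * x.1 := by rw [Subgroup.coe_mul, mul_comm]
        have h2 := congrArg Units.val (ta_mul x.1 y.1 (Units.mk0 g hg))
        change taL (x * y).1 g = _
        rw [h1]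
        exact h2)
    (fun x f g => map_mul (sg (tr x.1).left (dom_tr x.1)) f g)
    (fun x => (f x : H.left.functionField)) (fun x => (f x).ne_zero) (fun x y => by
      obtain ⟨c, hc⟩ := hc x y
      refine ⟨c, c.ne_zero, ?_⟩
      change (f (x * y) : H.left.functionField) = _
      rw [hc, Algebra.smul_def]
      rfl) hfin (fun x g hg => by
      exact (map_ne_zero (sg (tr x.1).left (dom_tr x.1))).mpr hg)
  obtain ⟨e, rfl⟩ : ∃ e' : H.left.functionFieldˣ, (e' : H.left.functionField) = e := ⟨Units.mk0 e he0, rfl⟩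
  -- the divisor `D' = div e + D`
  have hge : Ge (dv e * D) := by
    rw [ge_mul_dv_iff]
    intro p θ hθ
    refine Submodule.span_induction (p := fun (a : H.left.functionField) _ => a * θ ∈ O H.left p) ?_ ?_ ?_ ?_ hemem
    · rintro _ ⟨x, rfl⟩
      have h1 : Ge (dv (f x) * D) := by rw [hf x]; exact (hD.td x.1).ge
      exact ge_mul_dv_iff.mp h1 p θ hθ
    · rw [zero_mul]; exact (O H.left p).zero_mem
    · intro a b _ _ ha hb
      rw [add_mul]
      exact (O H.left p).add_mem ha hb
    · intro c a _ ha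
      rw [Algebra.smul_def, mul_assoc]
      exact (O H.left p).mul_mem (kF_mem_O H p c) ha
  have hE : Eff (dv e * D) := hD.mul_dv hge
  have hinv : ∀ x : W, td x.1 (dv e * D) = dv e * D := by
    intro x
    obtain ⟨c, hc0, hc⟩ := he x
    have h1 : f x * ta x.1 e = kU H (Units.mk0 c hc0) * e := by
      apply Units.ext
      rw [Units.val_mul, Units.val_mul, ← taL_coe, hc, Algebra.smul_def]
      rfl
    rw [map_mul, td_dv, ← hf x, ← mul_assoc, ← map_mul, mul_comm (ta x.1 e), h1, map_mul, dv_kU, one_mul]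
  have hU1 : IsOpen {p : H.left | (dv e * D) p = 1} := hE.isOpen
  have hone : dv e * D = 1 := by
    ext p : 1
    obtain ⟨w, hw⟩ := exists_tr_mem W hdense _ hU1 ⟨genericPoint H.left, dvs_generic _⟩ p
    have h2 := td_eq_one hw
    rw [hinv] at h2
    exact h2
  refine ⟨e⁻¹, ?_⟩
  rw [map_inv]
  exact eq_inv_of_mul_eq_one_right hone

end Groth.Agent.Sga7.H733.Trivialize
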